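import Cfsg.Agent.Lib.GoldCons.CyclicInter.Basic
import Cfsg.Agent.Lib.ZCGroup.TwoGroup

/-!
Intersections of Sylow 2-subgroups of rank at most one: the working form, inheritance and the determination of a
Sylow subgroup by two commuting involutions.
-/

set_option autoImplicit false
set_option linter.style.haveILetI false
set_option linter.unusedSectionVars false

namespace Cfsg.Agent.GoldCons.RankOneInter

open Subgroup
open scoped Pointwise

universe u

/-- Two commuting involutions shared by two distinct Sylow 2-subgroups are equal. -/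
def RI (G : Type u) [Group G] : Prop :=
  ∀ S T : Sylow 2 G, S ≠ T → ∀ a ∈ (S : Subgroup G) ⊓ (T : Subgroup G),
    ∀ b ∈ (S : Subgroup G) ⊓ (T : Subgroup G),
      a * a = 1 → a ≠ 1 → b * b = 1 → b ≠ 1 → a * b = b * a → a = b

/-- Two distinct commuting involutions inside `H`. -/
def HasTwo {G : Type u} [Group G] (H : Subgroup G) : Prop :=
  ∃ a ∈ H, ∃ b ∈ H, a * a = 1 ∧ a ≠ 1 ∧ b * b = 1 ∧ b ≠ 1 ∧ a * b = b * a ∧ a ≠ b

variable {G : Type u} [Group G] [Finite G]

theorem ri_of_rank (h : ∀ S T : Sylow 2 G, S ≠ T → Cfsg.PRankLE 2 1 ↥((S : Subgroup G) ⊓ (T : Subgroup G))) :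
    RI G := by
  intro S T hST a ha b hb haa ha1 hbb hb1 hab
  by_contra hne
  set D := (S : Subgroup G) ⊓ (T : Subgroup G)
  obtain ⟨F, -, -, hF4, hFe, -⟩ := ZCGroup.exists_four (S := D) (a := ⟨a, ha⟩) (b := ⟨b, hb⟩)
    (Subtype.ext hab) (Subtype.ext haa) (Subtype.ext hbb) (fun e => ha1 (congrArg Subtype.val e))
    (fun e => hb1 (congrArg Subtype.val e)) (fun e => hne (congrArg Subtype.val e))
  have := h S T hST F hFe.1 fun x hx => hFe.2 x hx
  have h4 : Nat.card F ≤ 2 := by simpa using this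
  omega

theorem HasTwo.mono {H K : Subgroup G} (h : HasTwo H) (hHK : H ≤ K) : HasTwo K := by
  obtain ⟨a, ha, b, hb, h'⟩ := h
  exact ⟨a, hHK ha, b, hHK hb, h'⟩

/-- Two commuting involutions determine the Sylow subgroup. -/
theorem RI.eq_of_two (h : RI G) {S T : Sylow 2 G} {X : Subgroup G} (hX : HasTwo X)
    (hS : X ≤ (S : Subgroup G)) (hT : X ≤ (T : Subgroup G)) : S = T := by
  obtain ⟨a, ha, b, hb, haa, ha1, hbb, hb1, hab, hne⟩ := hX
  by_contra hST
  exact hne (h S T hST a ⟨hS ha, hT ha⟩ b ⟨hS hb, hT hb⟩ haa ha1 hbb hb1 hab)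

/-- A subgroup with two commuting involutions lies in one Sylow subgroup, normalised by its normaliser. -/
theorem RI.normalizer_le (h : RI G) {S : Sylow 2 G} {X : Subgroup G} (hX : X ≤ (S : Subgroup G))
    (hc : HasTwo X) : normalizer (X : Set G) ≤ normalizer ((S : Subgroup G) : Set G) := by
  intro g hg
  refine Sylow.smul_eq_iff_mem_normalizer.1 (h.eq_of_two hc (fun x hx => ?_) hX)
  rw [CentralInter.mem_smul_sylow]
  exact hX ((mem_normalizer_iff''.1 hg x).1 hx)

/-- Subgroups inherit the hypothesis. -/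
theorem RI.subgroup (h : RI G) (E : Subgroup G) : RI ↥E := by
  haveI : Fact (Nat.Prime 2) := ⟨Nat.prime_two⟩
  intro S T hne a ha b hb haa ha1 hbb hb1 hab
  obtain ⟨S₁, hS₁⟩ := (S.2.map E.subtype).exists_le_sylow
  obtain ⟨T₁, hT₁⟩ := (T.2.map E.subtype).exists_le_sylow
  have key : ∀ (P : Sylow 2 ↥E) (P₁ : Sylow 2 G), (P : Subgroup ↥E).map E.subtype ≤ (P₁ : Subgroup G) →
      (P : Subgroup ↥E) = (P₁ : Subgroup G).subgroupOf E := fun P P₁ hle =>
    (P.is_maximal' (P₁.2.comap_of_injective E.subtype E.subtype_injective) (map_le_iff_le_comap.1 hle)).symm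
  have hne' : S₁ ≠ T₁ := fun e => hne (Sylow.ext (by rw [key S S₁ hS₁, key T T₁ hT₁, e]))
  refine Subtype.ext (h S₁ T₁ hne' a ⟨hS₁ (mem_map_of_mem _ ha.1), hT₁ (mem_map_of_mem _ ha.2)⟩ b
    ⟨hS₁ (mem_map_of_mem _ hb.1), hT₁ (mem_map_of_mem _ hb.2)⟩ (congrArg Subtype.val haa)
    (fun e => ha1 (Subtype.ext e)) (congrArg Subtype.val hbb) (fun e => hb1 (Subtype.ext e))
    (congrArg Subtype.val hab))

/-- A 2-group meets a subgroup of odd order trivially. -/
theorem eq_one_of_odd {Q K : Subgroup G} (hQ : IsPGroup 2 Q) (hK : Odd (Nat.card K)) {x : G} (hx : x ∈ Q)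
    (hxK : x ∈ K) : x = 1 := by
  obtain ⟨n, hn⟩ := IsPGroup.iff_orderOf.1 hQ ⟨x, hx⟩
  rw [orderOf_mk] at hn
  have hodd : Odd (orderOf x) := hK.of_dvd_nat (orderOf_dvd_natCard K hxK)
  rcases n with _ | n
  · rwa [pow_zero, orderOf_eq_one_iff] at hn
  · rw [hn, pow_succ] at hodd
    exact absurd hodd (Nat.not_odd_iff_even.2 (Even.mul_left even_two _))

/-- Quotients by subgroups of odd order inherit the hypothesis. -/
theorem RI.map {H : Type u} [Group H] [Finite H] (h : RI G) (π : G →* H) (hπ : Function.Surjective π)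
    (hodd : Odd (Nat.card π.ker)) : RI H := by
  haveI : Fact (Nat.Prime 2) := ⟨Nat.prime_two⟩
  intro S T hne a ha b hb haa ha1 hbb hb1 hab
  set X := (S : Subgroup H) ⊓ (T : Subgroup H)
  obtain ⟨P⟩ : Nonempty (Sylow 2 ↥(X.comap π)) := inferInstance
  set Q := (P : Subgroup ↥(X.comap π)).map (X.comap π).subtype
  have hQ : IsPGroup 2 Q := P.2.map _
  have hQX : Q.map π = X := CyclicInter.map_sylow_comap π hπ (S.2.to_le inf_le_left) P
  have hle : Q ≤ X.comap π := map_subtype_le _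
  obtain ⟨S₁, hS₁, eS⟩ := CyclicInter.exists_lift π hπ S hQ (hle.trans (comap_mono inf_le_left))
  obtain ⟨T₁, hT₁, eT⟩ := CyclicInter.exists_lift π hπ T hQ (hle.trans (comap_mono inf_le_right))
  have hne' : S₁ ≠ T₁ := fun e => hne (Sylow.ext (by rw [← eS, ← eT, e]))
  obtain ⟨a', ha', hea⟩ := hQX.ge ha
  obtain ⟨b', hb', heb⟩ := hQX.ge hb
  have key : ∀ x ∈ Q, π x = 1 → x = 1 := fun x hx e =>
    eq_one_of_odd hQ hodd hx (MonoidHom.mem_ker.2 e)
  have hc : a' * b' = b' * a' := by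
    have h1 := key (a' * b' * (b' * a')⁻¹) (mul_mem (mul_mem ha' hb') (inv_mem (mul_mem hb' ha')))
      (by rw [map_mul, map_inv, map_mul, map_mul, hea, heb, hab, mul_inv_cancel])
    exact mul_inv_eq_one.1 h1
  have he := h S₁ T₁ hne' a' ⟨hS₁ ha', hT₁ ha'⟩ b' ⟨hS₁ hb', hT₁ hb'⟩
    (key _ (mul_mem ha' ha') (by rw [map_mul, hea, haa])) (fun e => ha1 (by rw [← hea, e, map_one]))
    (key _ (mul_mem hb' hb') (by rw [map_mul, heb, hbb])) (fun e => hb1 (by rw [← heb, e, map_one])) hc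
  rw [← hea, ← heb, he]

/-- The hypothesis bounds the rank of the central intersections. -/
theorem RI.centralRankOne (h : RI G) : CentralRankOne G := by
  intro S T hne _ A hAc hA
  by_contra hbig
  rw [pow_one, not_le] at hbig
  haveI : Nontrivial A := Finite.one_lt_card_iff_nontrivial.1 (by omega)
  obtain ⟨a, ha⟩ := exists_ne (1 : A)
  obtain ⟨b, hb1, hba⟩ : ∃ b : A, b ≠ 1 ∧ b ≠ a := by
    by_contra hno
    push Not at hno
    have hs : (Set.univ : Set A) ⊆ {1, a} := fun c _ => by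
      by_cases hc : c = 1
      · exact Or.inl hc
      · exact Or.inr (hno c hc)
    have := Set.ncard_le_ncard hs
    rw [Set.ncard_univ, Set.ncard_pair (Ne.symm ha)] at this
    omega
  have hsq : ∀ c : A, (c : ↥((S : Subgroup G) ⊓ (T : Subgroup G))).1 *
      (c : ↥((S : Subgroup G) ⊓ (T : Subgroup G))).1 = 1 := fun c => by
    have := congrArg Subtype.val (hA c c.2)
    rw [pow_two] at this
    exact this
  refine hba (Subtype.ext (Subtype.ext (h S T hne _ a.1.2 _ b.1.2 (hsq a)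
    (fun e => ha (Subtype.ext (Subtype.ext e))) (hsq b) (fun e => hb1 (Subtype.ext (Subtype.ext e)))
    (congrArg (fun t : A => (t : ↥((S : Subgroup G) ⊓ (T : Subgroup G))).1) (hAc.is_comm.comm a b)))).symm)

end Cfsg.Agent.GoldCons.RankOneInter
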