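import Cfsg.Agent.Lib.GoldCons.RankOneInter.OneMain

/-!
Two components with quaternion Sylow 2-subgroups and a 2-core of order two: the second conclusion.
-/

set_option autoImplicit false
set_option linter.style.haveILetI false
set_option linter.unusedSectionVars false

namespace Cfsg.Agent.GoldCons.RankOneInter

open Subgroup
open scoped Pointwise

universe u

local notation "SL₅" => Matrix.SpecialLinearGroup (Fin 2) (ZMod 5)

/-- The second conclusion. -/
def OutB (X : Type u) [Group X] : Prop :=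
  ∃ E : Subgroup X, E.Normal ∧ Odd E.index ∧ ∃ (Z : Subgroup (SL₅ × SL₅)) (_ : Z.Normal),
    Z = Subgroup.zpowers ((-1 : SL₅), (-1 : SL₅)) ∧ Nonempty (↥E ≃* (SL₅ × SL₅) ⧸ Z)

variable {X : Type u} [Group X] [Finite X] {L M : Subgroup X}

theorem mem_normalizer_of_map {g : X} (he : L.map (MulAut.conj g).toMonoidHom = L) :
    g ∈ normalizer (L : Set X) := by
  refine SEBrick.mem_normalizer_of fun x hx => ?_
  exact he.le ⟨x, hx, rfl⟩

/-- A preimage of an involution of the simple quotient in every trace. -/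
theorem four_elt (hL : Cfsg.IsComponent L) (S : Sylow 2 X) :
    ∃ x : ↥L, x * x ∈ center ↥L ∧ x ∉ center ↥L ∧ (x : X) ∈ (S : Subgroup X) := by
  haveI : Fact (Nat.Prime 2) := ⟨Nat.prime_two⟩
  haveI := quot_simple hL
  obtain ⟨T₀, hT₀⟩ := exists_syl hL S
  set π := QuotientGroup.mk' (center ↥L)
  set U := T₀.mapSurjective (f := π) (QuotientGroup.mk'_surjective _) with hU
  have h2 : 2 ∣ Nat.card (U : Subgroup (↥L ⧸ center ↥L)) := U.dvd_card_of_dvd_card (two_dvd_card (quot_noncomm hL))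
  obtain ⟨⟨y, hy⟩, hyo⟩ := exists_prime_orderOf_dvd_card' 2 h2
  rw [orderOf_mk] at hyo
  have hy2 : y * y = 1 := by rw [← pow_two, ← hyo, pow_orderOf_eq_one]
  rw [hU, Sylow.coe_mapSurjective] at hy
  obtain ⟨x, hxT, rfl⟩ := hy
  rw [hT₀] at hxT
  refine ⟨x, (QuotientGroup.eq_one_iff _).1 (by rw [← hy2]; rfl), fun e => ?_, hxT⟩
  rw [show π x = 1 from (QuotientGroup.eq_one_iff _).2 e, orderOf_one] at hyo
  omega

/-- The part in the component of an element of a Sylow subgroup. -/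
theorem part_mem (hO : Cfsg.oddCore X = ⊥) (hL : Cfsg.IsComponent L) (S : Sylow 2 X) {l c : X} (hl : l ∈ L)
    (hc : c ∈ centralizer (L : Set X)) (hs : l * c ∈ (S : Subgroup X)) : l ∈ (S : Subgroup X) := by
  haveI : Fact (Nat.Prime 2) := ⟨Nat.prime_two⟩
  obtain ⟨T, hT⟩ := exists_syl hL S
  have hcl : Commute l c := mem_centralizer_iff.1 hc l hl
  obtain ⟨k, hk⟩ := S.2 ⟨l * c, hs⟩
  have hk' : l ^ 2 ^ k * c ^ 2 ^ k = 1 := by rw [← hcl.mul_pow]; exact congrArg Subtype.val hk
  have hpow : (⟨l, hl⟩ : ↥L) ^ 2 ^ k ∈ center ↥L := mem_center_iff.2 fun w => Subtype.ext (by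
    show (w : X) * l ^ 2 ^ k = l ^ 2 ^ k * w
    rw [eq_inv_of_mul_eq_one_left hk']
    exact mem_centralizer_iff.1 (inv_mem (pow_mem hc _)) w w.2)
  obtain ⟨j, hj⟩ := center_two hO hL ⟨_, hpow⟩
  have hlT : (⟨l, hl⟩ : ↥L) ∈ (T : Subgroup ↥L) := by
    refine CyclicInter.mem_of_two_normalizer (k := k + j) (SEBrick.mem_normalizer_of fun w hw => ?_) (by
      rw [pow_add, pow_mul]; exact congrArg Subtype.val hj)
    rw [hT, mem_subgroupOf] at hw ⊢
    show l * (w : X) * l⁻¹ ∈ (S : Subgroup X)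
    have h1 := mul_mem (mul_mem hs hw) (inv_mem hs)
    have hcw : Commute c (w : X) := (mem_centralizer_iff.1 hc w w.2).symm
    rwa [show l * c * (w : X) * (l * c)⁻¹ = l * (c * w * c⁻¹) * l⁻¹ by group, hcw.eq, mul_inv_cancel_right] at h1
  rwa [hT, mem_subgroupOf] at hlT

/-- Two quaternion components over a 2-core of order two. -/
structure Two2 (L M : Subgroup X) : Prop where
  hyp : Hyp X
  small : ∀ r ∈ Cfsg.pCore 2 X, r * r = 1
  quat : ∀ N : Subgroup X, Cfsg.IsComponent N → ¬ HasTwo N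
  cL : Cfsg.IsComponent L
  cM : Cfsg.IsComponent M
  ne : L ≠ M

namespace Two2

variable (c : Two2 L M)
include c

theorem symm : Two2 M L := ⟨c.hyp, c.small, c.quat, c.cM, c.cL, c.ne.symm⟩

theorem M_le : M ≤ centralizer (L : Set X) :=
  commutator_eq_bot_iff_le_centralizer.1 (Components.components_commute c.cM c.cL c.ne.symm)

theorem comm {x y : X} (hx : x ∈ L) (hy : y ∈ M) : Commute x y := mem_centralizer_iff.1 (c.M_le hy) x hx

theorem R_ne : Cfsg.pCore 2 X ≠ ⊥ := fun e => by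
  obtain ⟨z, -, hz1, -, -, hzR, -, -⟩ := quat_facts c.hyp c.cL (c.quat L c.cL)
  rw [e, mem_bot] at hzR
  exact hz1 (Subtype.ext hzR)

theorem prod_invol {x : ↥L} {y : ↥M} (hxx : x * x ∈ center ↥L) (hx : x ∉ center ↥L) (hyy : y * y ∈ center ↥M)
    (hy : y ∉ center ↥M) : (x : X) * y * (x * y) = 1 ∧ (x : X) * y ∉ Cfsg.pCore 2 X := by
  obtain ⟨z, hzz, hz1, hcen, huni, hzR, -, -⟩ := quat_facts c.hyp c.cL (c.quat L c.cL)
  obtain ⟨w, hww, hw1, hcen', huni', hwR, -, -⟩ := quat_facts c.hyp c.cM (c.quat M c.cM)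
  have hwz : (w : X) = z := c.hyp.R_unique hwR hzR (congrArg Subtype.val hww) (fun e => hw1 (Subtype.ext e))
    (congrArg Subtype.val hzz) (fun e => hz1 (Subtype.ext e))
  have hxz : x * x = z := ((hcen _).1 hxx).resolve_left fun e => hx ((hcen x).2 (huni x e))
  have hyz : y * y = w := ((hcen' _).1 hyy).resolve_left fun e => hy ((hcen' y).2 (huni' y e))
  refine ⟨?_, fun hm => hx (mem_center_iff.2 fun g => Subtype.ext ?_)⟩
  · rw [(c.comm x.2 y.2).symm.mul_mul_mul_comm, show (x : X) * x = z from congrArg Subtype.val hxz,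
      show (y : X) * y = w from congrArg Subtype.val hyz, hwz]
    exact congrArg Subtype.val hzz
  · have h1 : Commute (g : X) ((x : X) * y) :=
      (mem_centralizer_iff.1 (component_le_centralizer_R c.cL g.2) _ hm).symm
    have h2 := h1.mul_right ((c.comm g.2 y.2).inv_right)
    rwa [mul_inv_cancel_right] at h2

theorem det_elt {x : ↥L} {y : ↥M} (hxx : x * x ∈ center ↥L) (hx : x ∉ center ↥L) (hyy : y * y ∈ center ↥M)
    (hy : y ∉ center ↥M) {S T : Sylow 2 X} (hxS : (x : X) ∈ (S : Subgroup X)) (hyS : (y : X) ∈ (S : Subgroup X))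
    (hxT : (x : X) ∈ (T : Subgroup X)) (hyT : (y : X) ∈ (T : Subgroup X)) : S = T := by
  obtain ⟨h1, h2⟩ := c.prod_invol hxx hx hyy hy
  exact c.hyp.eq_of_invol c.R_ne h1 h2 (mul_mem hxS hyS) (mul_mem hxT hyT)

theorem det {S T : Sylow 2 X} (h₁ : (S : Subgroup X) ⊓ L = (T : Subgroup X) ⊓ L)
    (h₂ : (S : Subgroup X) ⊓ M = (T : Subgroup X) ⊓ M) : S = T := by
  obtain ⟨x, hxx, hx, hxS⟩ := four_elt c.cL S
  obtain ⟨y, hyy, hy, hyS⟩ := four_elt c.cM S
  exact c.det_elt hxx hx hyy hy hxS hyS (mem_inf.1 (h₁.le (mem_inf.2 ⟨hxS, x.2⟩))).1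
    (mem_inf.1 (h₂.le (mem_inf.2 ⟨hyS, y.2⟩))).1

/-- The simple quotient intersects trivially. -/
theorem ti : TI (↥L ⧸ center ↥L) := by
  haveI : Fact (Nat.Prime 2) := ⟨Nat.prime_two⟩
  have hO := c.hyp.odd
  set π := QuotientGroup.mk' (center ↥L) with hπ
  have hπs : Function.Surjective π := QuotientGroup.mk'_surjective _
  obtain ⟨S₀⟩ : Nonempty (Sylow 2 X) := inferInstance
  obtain ⟨y, hyy, hy, hyS⟩ := four_elt c.cM S₀
  have hlift : ∀ U : Sylow 2 (↥L ⧸ center ↥L), ∃ S : Sylow 2 X, (y : X) ∈ (S : Subgroup X) ∧ ∀ x : ↥L,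
      π x ∈ (U : Subgroup (↥L ⧸ center ↥L)) ↔ (x : X) ∈ (S : Subgroup X) := by
    intro U
    obtain ⟨T₁⟩ : Nonempty (Sylow 2 ↥L) := inferInstance
    obtain ⟨q, hq⟩ := MulAction.exists_smul_eq (↥L ⧸ center ↥L) (T₁.mapSurjective hπs) U
    obtain ⟨g, rfl⟩ := hπs q
    set W := g • T₁ with hW
    have hle : ((W : Subgroup ↥L).map L.subtype) ≤ L := map_subtype_le _
    have hn : (S₀ : Subgroup X) ⊓ M ≤ normalizer (((W : Subgroup ↥L).map L.subtype) : Set X) := fun m hm =>
      centralizer_le_normalizer _ (centralizer_le hle (c.M_le (mem_inf.1 hm).2))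
    obtain ⟨S, hS⟩ := (IsPGroup.to_sup_of_normal_right' (S₀.2.to_le inf_le_left) (W.2.map L.subtype)
      hn).exists_le_sylow
    refine ⟨S, hS (mem_sup_left (mem_inf.2 ⟨hyS, y.2⟩)), fun x => ?_⟩
    have heq : (S : Subgroup X).subgroupOf L = W := W.is_maximal'
      (S.2.comap_of_injective L.subtype L.subtype_injective) fun w hw => by
        rw [mem_subgroupOf]
        exact hS (mem_sup_right (mem_map_of_mem L.subtype hw))
    rw [← mem_subgroupOf, heq, ← hq, hW, CentralInter.mem_smul_sylow, CentralInter.mem_smul_sylow,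
      Sylow.coe_mapSurjective, ← map_inv, ← map_mul, ← map_mul, ← mem_comap, comap_map_eq_self]
    rw [QuotientGroup.ker_mk']
    exact IsPGroup.le_sylow_of_normal (center_two hO c.cL) T₁
  intro U V q hq hqq hq1
  obtain ⟨x, rfl⟩ := hπs q
  obtain ⟨S, hyS', hS⟩ := hlift U
  obtain ⟨T, hyT, hT⟩ := hlift V
  have he := c.det_elt ((QuotientGroup.eq_one_iff _).1 (by rw [← hqq]; rfl))
    (fun e => hq1 ((QuotientGroup.eq_one_iff _).2 e)) hyy hy ((hS x).1 (mem_inf.1 hq).1) hyS'
    ((hT x).1 (mem_inf.1 hq).2) hyT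
  subst he
  refine Sylow.ext (Subgroup.ext fun w => ?_)
  obtain ⟨w, rfl⟩ := hπs w
  rw [hS, hT]

theorem se : ∃ H : Subgroup (↥L ⧸ center ↥L), Cfsg.IsStronglyEmbedded H := by
  haveI := quot_simple c.cL
  exact se_of_ti (quot_noncomm c.cL) c.ti

theorem sl_five : Nonempty (↥L ≃* SL₅) := by
  obtain ⟨z, hzz, hz1, hcen, -, -, ⟨T, n, hn, ⟨e⟩⟩, -⟩ := quat_facts c.hyp c.cL (c.quat L c.cL)
  haveI := quot_simple c.cL
  obtain ⟨f⟩ := psl_five_of_dihedral (quot_noncomm c.cL) c.ti T hn e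
  exact AbelianTwo.sl_five_of_center (perfect_comp c.cL) f fun e0 => hz1 (by
    have := (hcen z).2 (Or.inr rfl)
    rwa [e0, mem_bot] at this)

theorem cases_comp {N : Subgroup X} (hN : Cfsg.IsComponent N) : N = L ∨ N = M := by
  haveI : Fact (Nat.Prime 2) := ⟨Nat.prime_two⟩
  by_contra hno
  rw [not_or] at hno
  have h1 : N ≤ centralizer (L : Set X) :=
    commutator_eq_bot_iff_le_centralizer.1 (Components.components_commute hN c.cL hno.1)
  have h2 : N ≤ centralizer (M : Set X) :=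
    commutator_eq_bot_iff_le_centralizer.1 (Components.components_commute hN c.cM hno.2)
  obtain ⟨S⟩ : Nonempty (Sylow 2 X) := inferInstance
  have hNS : N ≤ normalizer ((S : Subgroup X) : Set X) := by
    intro g hg
    have hfix : ∀ {K : Subgroup X}, N ≤ centralizer (K : Set X) → ((g • S : Sylow 2 X) : Subgroup X) ⊓ K =
        (S : Subgroup X) ⊓ K := fun {K} hK => Subgroup.ext fun x => by
      rw [mem_inf, mem_inf, CentralInter.mem_smul_sylow]
      refine and_congr_left fun hx => ?_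
      rw [mul_assoc, mem_centralizer_iff.1 (hK hg) x hx, inv_mul_cancel_left]
    exact Sylow.smul_eq_iff_mem_normalizer.1 (c.det (hfix h1) (hfix h2))
  obtain ⟨T, hT⟩ := exists_syl hN S
  haveI : (T : Subgroup ↥N).Normal := by
    rw [hT]
    exact ⟨fun x hx g => (mem_normalizer_iff.1 (hNS g.2) x).1 hx⟩
  refine Components.quasisimple_not_solvable hN.2 ?_
  haveI : Group.IsSolvable (T : Subgroup ↥N) := MinNonCA.solvable_of_twoGroup T.2
  haveI : Group.IsSolvable (↥N ⧸ (T : Subgroup ↥N)) := MinNonCA.solvable_of_odd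
    (Nat.odd_iff.2 (Nat.two_dvd_ne_zero.1 T.not_dvd_index))
  exact Group.isSolvable_of_ker_le_range (T : Subgroup ↥N).subtype (QuotientGroup.mk' (T : Subgroup ↥N))
    (by rw [QuotientGroup.ker_mk', range_subtype])

/-- An element of the component moving nothing but outside the Sylow subgroup. -/
theorem exists_move (S : Sylow 2 X) :
    ∃ g ∈ L, g ∈ normalizer ((S : Subgroup X) : Set X) ∧ g ∉ (S : Subgroup X) := by
  haveI : Fact (Nat.Prime 2) := ⟨Nat.prime_two⟩
  haveI := quot_simple c.cL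
  obtain ⟨T, hT⟩ := exists_syl c.cL S
  set π := QuotientGroup.mk' (center ↥L) with hπ
  have hπs : Function.Surjective π := QuotientGroup.mk'_surjective _
  obtain ⟨P, hP⟩ := CyclicInter.exists_spread (↥L ⧸ center ↥L) inferInstance (quot_noncomm c.cL) (Or.inr c.se)
    (T.mapSurjective hπs)
  obtain ⟨h₀, hh₀, hodd, htr, -, -⟩ := hP.facts.reg
  have hmem : ∀ x : ↥L, π x ∈ ((T.mapSurjective hπs : Sylow 2 (↥L ⧸ center ↥L)) : Subgroup _) ↔
      (x : X) ∈ (S : Subgroup X) := fun x => by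
    rw [← mem_subgroupOf, ← hT, Sylow.coe_mapSurjective, ← mem_comap, comap_map_eq_self]
    rw [QuotientGroup.ker_mk']
    exact IsPGroup.le_sylow_of_normal (center_two c.hyp.odd c.cL) T
  obtain ⟨g, rfl⟩ := hπs h₀
  refine ⟨g, g.2, Sylow.smul_eq_iff_mem_normalizer.1 (c.det ?_ ?_), fun hg => ?_⟩
  · refine Subgroup.ext fun x => ?_
    rw [mem_inf, mem_inf, CentralInter.mem_smul_sylow]
    refine and_congr_left fun hx => ?_
    rw [show (g : X)⁻¹ * x * g = ((g⁻¹ * ⟨x, hx⟩ * g : ↥L) : X) from rfl, ← hmem, map_mul, map_mul, map_inv,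
      ← mem_normalizer_iff''.1 hh₀, hmem]
  · refine Subgroup.ext fun x => ?_
    rw [mem_inf, mem_inf, CentralInter.mem_smul_sylow]
    refine and_congr_left fun hx => ?_
    rw [mul_assoc, ← (c.comm g.2 hx).eq, inv_mul_cancel_left]
  · have hgU := (hmem g).2 hg
    obtain ⟨k, hk⟩ := IsPGroup.iff_orderOf.1 (T.mapSurjective hπs).2 ⟨π g, hgU⟩
    rw [orderOf_mk] at hk
    rcases k with _ | k
    · rw [pow_zero, orderOf_eq_one_iff] at hk
      have hs : (P : Set (↥L ⧸ center ↥L)).ncard ≤ 2 := by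
        obtain ⟨a, ha, ha1⟩ : ∃ a ∈ P, a ≠ 1 := P.bot_or_exists_ne_one.resolve_left fun e => by
          have := hP.facts.four
          rw [e, card_bot] at this
          omega
        refine (Set.ncard_le_ncard (t := {1, a}) fun x hx => ?_).trans (Set.ncard_pair (Ne.symm ha1)).le
        by_cases h1 : x = 1
        · exact Or.inl h1
        · obtain ⟨i, hi⟩ := htr a ha ha1 x hx h1
          rw [hk, one_pow, one_mul, inv_one, mul_one] at hi
          exact Or.inr hi.symm
      rw [← Nat.card_coe_set_eq] at hs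
      have := hP.facts.four
      change Nat.card P ≤ 2 at hs
      omega
    · rw [hk, pow_succ] at hodd
      exact absurd hodd (Nat.not_odd_iff_even.2 (Even.mul_left even_two _))

theorem normal : L.Normal := by
  haveI : Fact (Nat.Prime 2) := ⟨Nat.prime_two⟩
  have hswap : ∀ g : X, g ∉ normalizer (L : Set X) → L.map (MulAut.conj g).toMonoidHom = M := fun g hg =>
    (c.cases_comp (Components.component_conj c.cL g)).resolve_left fun e => hg (mem_normalizer_of_map e)
  have htwo : ∀ (S : Sylow 2 X), ∀ s ∈ (S : Subgroup X), s ∈ normalizer (L : Set X) := by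
    intro S s hs
    by_contra hn
    obtain ⟨g, hg, hgS, hgn⟩ := c.exists_move S
    have hg' : s * g * s⁻¹ ∈ M := (hswap s hn).le ⟨g, hg, rfl⟩
    have hm : g⁻¹ * (s * g * s⁻¹) ∈ (S : Subgroup X) := by
      rw [(c.comm (inv_mem hg) hg').eq, show s * g * s⁻¹ * g⁻¹ = s * (g * s⁻¹ * g⁻¹) by group]
      exact mul_mem hs ((mem_normalizer_iff.1 hgS _).1 (inv_mem hs))
    have := inv_mem (part_mem c.hyp.odd c.cL S (inv_mem hg) (c.M_le hg') hm)
    rw [inv_inv] at this
    exact hgn this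
  refine normalizer_eq_top_iff.1 (eq_top_iff.2 fun g _ => ?_)
  by_contra hn
  have hgg : g * g ∈ normalizer (L : Set X) := by
    refine mem_normalizer_of_map ?_
    have e1 := hswap g hn
    have e2 : M.map (MulAut.conj g).toMonoidHom = L :=
      (c.cases_comp (Components.component_conj c.cM g)).resolve_right fun e =>
        c.ne (map_injective (MulAut.conj g).injective (e1.trans e.symm))
    rw [map_mul, show (MulAut.conj g * MulAut.conj g).toMonoidHom =
      (MulAut.conj g).toMonoidHom.comp (MulAut.conj g).toMonoidHom from MonoidHom.ext fun x => rfl, ← map_map,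
      e1, e2]
  obtain ⟨k, m, hm, hkm⟩ := Nat.exists_eq_two_pow_mul_odd (orderOf_pos g).ne'
  have hp : IsPGroup 2 ↥(zpowers (g ^ m)) := IsPGroup.of_card (n := k) (by
    rw [Nat.card_zpowers, orderOf_pow_of_dvd (by rintro rfl; simp at hm) ⟨2 ^ k, by rw [hkm, mul_comm]⟩, hkm,
      Nat.mul_div_cancel _ (Nat.pos_of_ne_zero (by rintro rfl; simp at hm))])
  obtain ⟨S, hS⟩ := hp.exists_le_sylow
  obtain ⟨j, rfl⟩ := hm
  have h1 := htwo S _ (hS (mem_zpowers _))
  rw [pow_add, pow_one, pow_mul, pow_two] at h1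
  refine hn ?_
  have := mul_mem (inv_mem (pow_mem hgg j)) h1
  rwa [inv_mul_cancel_left] at this

/-- A Sylow subgroup lies in the product of the components. -/
theorem sylow_part (S : Sylow 2 X) {s : X} (hs : s ∈ (S : Subgroup X)) :
    ∃ l ∈ L, ∃ d ∈ centralizer (L : Set X), s = l * d := by
  haveI : Fact (Nat.Prime 2) := ⟨Nat.prime_two⟩
  haveI := c.normal
  haveI hMn := c.symm.normal
  refine sylow_split c.cL c.se S (fun g hg => ?_) s hs
  obtain ⟨T, hT⟩ := exists_syl c.cM S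
  obtain ⟨T₂, hT₂⟩ := exists_syl c.cM (g • S)
  obtain ⟨m, hm⟩ := MulAction.exists_smul_eq ↥M T₂ T
  refine ⟨m, c.M_le m.2, Sylow.smul_eq_iff_mem_normalizer.1 (c.det (Subgroup.ext fun x => ?_)
    (Subgroup.ext fun x => ?_))⟩
  · rw [mem_inf, mem_inf, CentralInter.mem_smul_sylow]
    refine and_congr_left fun hx => ?_
    have hgx : g⁻¹ * x * g ∈ L := by
      have := c.normal.conj_mem x hx g⁻¹
      rwa [inv_inv] at this
    rw [show ((m : X) * g)⁻¹ * x * ((m : X) * g) = g⁻¹ * ((m : X)⁻¹ * (x * m)) * g by group,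
      (c.comm hx m.2).eq, inv_mul_cancel_left]
    refine ⟨fun h1 => ?_, fun h1 => ?_⟩
    · exact ((mem_normalizer_iff''.1 hg x).2 (mem_inf.2 ⟨h1, hgx⟩)).1
    · exact (mem_inf.1 ((mem_normalizer_iff''.1 hg x).1 (mem_inf.2 ⟨h1, hx⟩))).1
  · rw [mem_inf, mem_inf, CentralInter.mem_smul_sylow]
    refine and_congr_left fun hx => ?_
    have e1 : x ∈ (S : Subgroup X) ↔ (⟨x, hx⟩ : ↥M) ∈ (T : Subgroup ↥M) := by rw [hT, mem_subgroupOf]
    rw [e1, ← hm, CentralInter.mem_smul_sylow, hT₂, mem_subgroupOf, CentralInter.mem_smul_sylow,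
      show g⁻¹ * ((m⁻¹ * ⟨x, hx⟩ * m : ↥M) : X) * g = ((m : X) * g)⁻¹ * x * ((m : X) * g) by
        simp only [coe_mul, coe_inv]; group]

theorem outB : OutB X := by
  haveI : Fact (Nat.Prime 2) := ⟨Nat.prime_two⟩
  haveI hLn := c.normal
  haveI hMn := c.symm.normal
  obtain ⟨z, hzz, hz1, hcen, huni, hzR, -, -⟩ := quat_facts c.hyp c.cL (c.quat L c.cL)
  obtain ⟨w, hww, hw1, hcen', huni', hwR, -, -⟩ := quat_facts c.hyp c.cM (c.quat M c.cM)
  have hzX : (z : X) * z = 1 := congrArg Subtype.val hzz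
  have hzX1 : (z : X) ≠ 1 := fun e => hz1 (Subtype.ext e)
  have hwz : (w : X) = z := c.hyp.R_unique hwR hzR (congrArg Subtype.val hww) (fun e => hw1 (Subtype.ext e))
    hzX hzX1
  set E := L ⊔ M with hE
  have hRE : Cfsg.pCore 2 X ≤ E := fun r hr => by
    by_cases hr1 : r = 1
    · rw [hr1]; exact one_mem E
    · rw [c.hyp.R_unique hr hzR (c.small r hr) hr1 hzX hzX1]; exact mem_sup_left z.2
  have hCE : centralizer (L : Set X) ⊓ centralizer (M : Set X) ≤ E := by
    have hF : Cfsg.generalizedFittingSubgroup X ≤ E := by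
      refine sup_le (Components.layer_le_iff.2 fun N hN => ?_) ((fitting_le_R c.hyp.odd).trans hRE)
      rcases c.cases_comp hN with rfl | rfl
      · exact le_sup_left
      · exact le_sup_right
    have h1 : centralizer (L : Set X) ⊓ centralizer (M : Set X) ≤ centralizer (E : Set X) := fun x hx => by
      have h2 : E ≤ centralizer ({x} : Set X) := sup_le
        (fun y hy => mem_centralizer_singleton_iff.2 (mem_centralizer_iff.1 (mem_inf.1 hx).1 y hy))
        (fun y hy => mem_centralizer_singleton_iff.2 (mem_centralizer_iff.1 (mem_inf.1 hx).2 y hy))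
      exact mem_centralizer_iff.2 fun y hy => mem_centralizer_singleton_iff.1 (h2 hy)
    exact h1.trans ((centralizer_le hF).trans (Components.centralizer_generalizedFitting_le.trans hF))
  obtain ⟨S⟩ : Nonempty (Sylow 2 X) := inferInstance
  have hSE : (S : Subgroup X) ≤ E := fun s hs => by
    obtain ⟨l, hl, d, hd, hs1⟩ := c.sylow_part S hs
    obtain ⟨m, hm, d', hd', hs2⟩ := c.symm.sylow_part S hs
    have hv : (l * m)⁻¹ * s ∈ centralizer (L : Set X) ⊓ centralizer (M : Set X) := by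
      refine mem_inf.2 ⟨?_, ?_⟩
      · rw [hs1, mul_inv_rev, mul_assoc, inv_mul_cancel_left]
        exact mul_mem (inv_mem (c.M_le hm)) hd
      · rw [hs2, (c.comm hl hm).eq, mul_inv_rev, mul_assoc, inv_mul_cancel_left]
        exact mul_mem (inv_mem (c.symm.M_le hl)) hd'
    have := mul_mem (mul_mem (mem_sup_left (T := M) hl) (mem_sup_right (S := L) hm)) (hCE hv)
    rwa [mul_inv_cancel_left] at this
  refine ⟨E, inferInstance, Nat.odd_iff.2 (Nat.two_dvd_ne_zero.1 fun hd =>
    S.not_dvd_index (hd.trans (index_dvd_of_le hSE))), ?_⟩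
  obtain ⟨eL⟩ := c.sl_five
  obtain ⟨eM⟩ := c.symm.sl_five
  set f : SL₅ × SL₅ →* X := MonoidHom.noncommCoprod (L.subtype.comp eL.symm.toMonoidHom)
    (M.subtype.comp eM.symm.toMonoidHom) (fun a b => c.comm (eL.symm a).2 (eM.symm b).2) with hf
  have hfa : ∀ a b : SL₅, f (a, b) = (eL.symm a : X) * (eM.symm b : X) := fun a b => rfl
  have hrange : f.range = E := by
    rw [hf, MonoidHom.noncommCoprod_range, MonoidHom.range_comp, MonoidHom.range_comp,
      MonoidHom.range_eq_top.2 eL.symm.surjective, MonoidHom.range_eq_top.2 eM.symm.surjective,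
      ← MonoidHom.range_eq_map, ← MonoidHom.range_eq_map, range_subtype, range_subtype]
  have hneg : (-1 : SL₅) * -1 = 1 ∧ (-1 : SL₅) ≠ 1 := by decide
  have eLz : eL.symm (-1) = z := (huni _ (by rw [← map_mul, hneg.1, map_one])).resolve_left fun e =>
    hneg.2 (eL.symm.map_eq_one_iff.1 e)
  have eMw : eM.symm (-1) = w := (huni' _ (by rw [← map_mul, hneg.1, map_one])).resolve_left fun e =>
    hneg.2 (eM.symm.map_eq_one_iff.1 e)
  have hker : f.ker = Subgroup.zpowers ((-1 : SL₅), (-1 : SL₅)) := by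
    refine le_antisymm ?_ (zpowers_le.2 ?_)
    · rintro ⟨a, b⟩ hab
      rw [MonoidHom.mem_ker, hfa] at hab
      have hac : eL.symm a ∈ center ↥L := mem_center_iff.2 fun g => Subtype.ext (by
        show (g : X) * eL.symm a = eL.symm a * g
        rw [eq_inv_of_mul_eq_one_left hab]
        exact (c.comm g.2 (inv_mem (eM.symm b).2)).eq)
      rcases (hcen _).1 hac with e | e
      · rw [e, coe_one, one_mul] at hab
        rw [show a = 1 from eL.symm.map_eq_one_iff.1 e,
          show b = 1 from eM.symm.map_eq_one_iff.1 (Subtype.ext hab)]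
        exact one_mem _
      · rw [e] at hab
        have hb : eM.symm b = w := Subtype.ext (by
          rw [hwz, ← inv_eq_of_mul_eq_one_right hab, inv_eq_of_mul_eq_one_right hzX])
        rw [show a = -1 from eL.symm.injective (e.trans eLz.symm),
          show b = -1 from eM.symm.injective (hb.trans eMw.symm)]
        exact mem_zpowers _
    · rw [MonoidHom.mem_ker, hfa, eLz, eMw, hwz, hzX]
  haveI hZn : (Subgroup.zpowers ((-1 : SL₅), (-1 : SL₅))).Normal := hker ▸ f.normal_ker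
  exact ⟨_, hZn, rfl, ⟨((QuotientGroup.quotientMulEquivOfEq hker.symm).trans
    ((QuotientGroup.quotientKerEquivRange f).trans (MulEquiv.subgroupCongr hrange))).symm⟩⟩

end Two2

end Cfsg.Agent.GoldCons.RankOneInter
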