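import Cfsg.Agent.Lib.GoldCons.CentralInter
import Cfsg.Agent.Lib.GW.OuterInvol
import Cfsg.Agent.Lib.GW.AlmostTarget
import Cfsg.Agent.Lib.GW.Setup
import Cfsg.Agent.Lib.ZCGroup.TwoGroup
import Mathlib.FieldTheory.Finite.Basic

/-!
An outer involutory automorphism of `PSL(2, q)` (`q` odd) or `A₇` fixes at least two Sylow 2-subgroups.
-/

set_option autoImplicit false
set_option linter.style.haveILetI false
set_option linter.unusedSectionVars false

namespace Cfsg.Agent.GoldCons.RankOneInter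

open Subgroup Matrix
open scoped Pointwise
open Cfsg.Agent.GW Cfsg.Agent.AutPSL

universe u

/-- An element of order two central in a dihedral Sylow subgroup of order at least eight is its central one. -/
theorem eq_z_of_central {G : Type u} [Group G] [Finite G] {S : Subgroup G} (d : TwoFus.Dih S) (h8 : 8 ∣ Nat.card S) {a : G}
    (ha : a ∈ S) (haa : a * a = 1) (ha1 : a ≠ 1) (hc : ∀ s ∈ S, s * a = a * s) : a = d.z := by
  by_cases hax : a ∈ zpowers d.x
  · exact (d.sq_cases hax haa).resolve_left ha1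
  exfalso
  rcases d.cases a ha with ⟨i, rfl⟩ | ⟨i, rfl⟩
  · exact hax (zpow_mem (mem_zpowers _) i)
  have h1 := hc d.x d.hx
  have h2 : d.x * d.y = d.y * d.x := by
    have h2' : d.x ^ i * (d.x * d.y) = d.x ^ i * (d.y * d.x) := by
      rw [← mul_assoc, ← (Commute.self_zpow d.x i).eq, mul_assoc, h1, mul_assoc]
    exact mul_left_cancel h2'
  have h3 : d.x ^ 2 = 1 := by
    have h4 := d.inv
    rw [← h2, mul_inv_cancel_right] at h4
    rw [pow_two]
    exact mul_eq_one_iff_eq_inv.2 h4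
  have hm := Nat.le_of_dvd two_pos (d.hm ▸ orderOf_dvd_of_pow_eq_one h3)
  have h5 := Nat.le_of_dvd (by have := d.two_le; omega) (d.card ▸ h8)
  omega

/-- With a unique fixed Sylow subgroup the fixed involutions are central in it. -/
theorem central_of_unique {K : Type u} [Group K] [Finite K] [IsSimpleGroup K] (hnc : ¬ IsMulCommutative K)
    (hd : DihSylow K) (φ : MulAut K) (hφ : φ * φ = 1) (P : Sylow 2 K)
    (hu : ∀ S : Sylow 2 K, (S : Subgroup K).map φ.toMonoidHom = S → S = P) {x : K} (hxx : x * x = 1)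
    (hx1 : x ≠ 1) (hx : φ x = x) : x ∈ (P : Subgroup K) ∧ ∀ s ∈ (P : Subgroup K), s * x = x * s := by
  classical
  haveI : Fact (Nat.Prime 2) := ⟨Nat.prime_two⟩
  obtain ⟨n, hn, ⟨e⟩⟩ := hd.all P
  obtain ⟨d, -⟩ := TwoFus.exists_dih P hn e
  obtain ⟨c, hc⟩ := isConj_iff.1 (BSW.dih_simple_one_class hnc P d d.z x
    (Invol.order_two_of_sq d.zz d.z_ne) (Invol.order_two_of_sq hxx hx1))
  set C := centralizer ({x} : Set K) with hC
  have hmemC : ∀ g : K, g ∈ C ↔ g * x = x * g := fun g => mem_centralizer_singleton_iff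
  have hT : ((c • P : Sylow 2 K) : Subgroup K) ≤ C := by
    intro g hg
    rw [CentralInter.mem_smul_sylow] at hg
    rw [hmemC, ← hc]
    calc g * (c * d.z * c⁻¹) = c * (c⁻¹ * g * c * d.z) * c⁻¹ := by group
      _ = c * (d.z * (c⁻¹ * g * c)) * c⁻¹ := by rw [d.z_comm hg]
      _ = c * d.z * c⁻¹ * g := by group
  -- the Sylow subgroups of the centraliser
  let A := {S : Sylow 2 K // (S : Subgroup K) ≤ C}
  let f : A → Sylow 2 C := fun S => S.1.subtype S.2
  have hfi : Function.Injective f := by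
    intro S S' he
    refine Subtype.ext (Sylow.ext (le_antisymm ?_ ?_)) <;> intro g hg
    · have := congrArg (fun U : Sylow 2 C => (U : Subgroup C)) he
      simp only [f, Sylow.coe_subtype] at this
      have h1 : (⟨g, S.2 hg⟩ : C) ∈ (S.1 : Subgroup K).subgroupOf C := hg
      rw [this] at h1
      exact h1
    · have := congrArg (fun U : Sylow 2 C => (U : Subgroup C)) he
      simp only [f, Sylow.coe_subtype] at this
      have h1 : (⟨g, S'.2 hg⟩ : C) ∈ (S'.1 : Subgroup K).subgroupOf C := hg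
      rw [← this] at h1
      exact h1
  have hfs : Function.Surjective f := by
    intro U
    obtain ⟨g, hg⟩ := MulAction.exists_smul_eq C ((c • P).subtype hT) U
    have hle : (((g : K) • (c • P) : Sylow 2 K) : Subgroup K) ≤ C := by
      intro y hy
      rw [CentralInter.mem_smul_sylow] at hy
      have := C.mul_mem (C.mul_mem g.2 (hT hy)) (C.inv_mem g.2)
      rwa [show (g : K) * ((g : K)⁻¹ * y * g) * (g : K)⁻¹ = y by group] at this
    refine ⟨⟨(g : K) • (c • P), hle⟩, ?_⟩
    rw [← hg]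
    ext y
    simp only [f, Sylow.coe_subtype, mem_subgroupOf]
    rw [CentralInter.mem_smul_sylow, CentralInter.mem_smul_sylow, CentralInter.mem_smul_sylow, Sylow.coe_subtype,
      mem_subgroupOf, CentralInter.mem_smul_sylow]
    rfl
  haveI : Fintype A := Fintype.ofFinite A
  have hodd : ¬ 2 ∣ Fintype.card A := by
    rw [← Nat.card_eq_fintype_card, Nat.card_congr (Equiv.ofBijective f ⟨hfi, hfs⟩)]
    intro h2
    have h1 := card_sylow_modEq_one 2 C
    rw [Nat.ModEq, Nat.dvd_iff_mod_eq_zero.1 h2] at h1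
    omega
  have hφ2 : ∀ g, φ (φ g) = g := fun g => by rw [← MulAut.mul_apply, hφ, MulAut.one_apply]
  have hmap : ∀ S : A, ((S.1 : Subgroup K).map φ.toMonoidHom) ≤ C := by
    rintro S _ ⟨g, hg, rfl⟩
    show φ g ∈ C
    rw [hmemC]
    conv_lhs => rw [← hx]
    conv_rhs => rw [← hx]
    rw [← map_mul, ← map_mul, (hmemC g).1 (S.2 hg)]
  have hsyl : ∀ S : Sylow 2 K, ∃ S' : Sylow 2 K, (S' : Subgroup K) = (S : Subgroup K).map φ.toMonoidHom :=
    fun S => ⟨S.mapSurjective (f := φ.toMonoidHom) φ.surjective, Sylow.coe_mapSurjective _ _⟩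
  choose F hF using hsyl
  let σ : A → A := fun S => ⟨F S.1, (hF S.1).symm ▸ hmap S⟩
  have hσσ : Function.Involutive σ := fun S => Subtype.ext (Sylow.ext (by
    show (F (F S.1) : Subgroup K) = S.1
    rw [hF, hF, Subgroup.map_map]
    conv_rhs => rw [← Subgroup.map_id (S.1 : Subgroup K)]
    congr 1
    exact MonoidHom.ext hφ2))
  obtain ⟨S, hS⟩ := Equiv.Perm.exists_fixed_point_of_prime (p := 2) (n := 1) hodd (σ := hσσ.toPerm σ)
    (by ext S; simp [pow_two, hσσ S])
  have hfix : (S.1 : Subgroup K).map φ.toMonoidHom = S.1 := by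
    rw [← hF]
    exact congrArg (fun U : A => (U.1 : Subgroup K)) hS
  have hSP := hu _ hfix
  refine ⟨?_, fun s hs => (hmemC s).1 (S.2 (hSP.symm ▸ hs))⟩
  -- `x` is central in `S`, hence a member
  have hp : IsPGroup 2 (zpowers x : Subgroup K) :=
    IsPGroup.of_card (n := 1) (by rw [Nat.card_zpowers, Invol.order_two_of_sq hxx hx1, pow_one])
  have hle : zpowers x ≤ normalizer ((P : Subgroup K) : Set K) := zpowers_le.2 (centralizer_le_normalizer _
    (mem_centralizer_iff.2 fun s hs => (hmemC s).1 (S.2 (hSP.symm ▸ hs))))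
  exact (P.is_maximal' (P.2.to_sup_of_normal_left' hp hle) le_sup_left).le (mem_sup_right (mem_zpowers x))

section PSL

variable {F : Type} [Field F] [Fintype F]

local notation "PSL2" => Matrix.ProjectiveSpecialLinearGroup (Fin 2) F
local notation "GL2" => GL (Fin 2) F
local notation "SL2" => Matrix.SpecialLinearGroup (Fin 2) F
local notation "M2" => Matrix (Fin 2) (Fin 2) F

/-- An outer diagonal involution in normal form. -/
theorem exists_outerData {γ : MulAut PSL2} (hγ : γ ∈ Cfsg.inndiagPSL 2 F) (hγ' : γ ∉ Cfsg.Inn PSL2)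
    (hγ2 : γ * γ = 1) : ∃ g : GL2, γ = semi g 1 ∧ ∃ d, OuterData g d := by
  obtain ⟨g, rfl⟩ := mem_inndiag.1 hγ
  have htr : g.1 1 1 = -g.1 0 0 := by
    rw [semi_mul', mapGL_one, one_mul, semi_eq_one_iff le_rfl] at hγ2
    obtain ⟨-, c, hc⟩ := hγ2
    have hc' := congrArg Units.val hc
    rw [Units.val_mul, GeneralLinearGroup.coe_scalar, ← Matrix.ext_iff] at hc'
    simp [Fin.forall_fin_two, Matrix.mul_apply, Fin.sum_univ_two] at hc'
    obtain ⟨⟨e00, e01⟩, e10, e11⟩ := hc'
    by_contra htr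
    have ht : g.1 0 0 + g.1 1 1 ≠ 0 := fun e => htr (by linear_combination e)
    have h01 : g.1 0 1 = 0 := by
      have : g.1 0 1 * (g.1 0 0 + g.1 1 1) = 0 := by linear_combination e01
      exact (mul_eq_zero.1 this).resolve_right ht
    have h10 : g.1 1 0 = 0 := by
      have : g.1 1 0 * (g.1 0 0 + g.1 1 1) = 0 := by linear_combination e10
      exact (mul_eq_zero.1 this).resolve_right ht
    have hd : g.1 0 0 = g.1 1 1 := by
      have : (g.1 0 0 - g.1 1 1) * (g.1 0 0 + g.1 1 1) = 0 := by linear_combination e00 - e11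
      exact sub_eq_zero.1 ((mul_eq_zero.1 this).resolve_right ht)
    refine hγ' ⟨1, ?_⟩
    rw [map_one, eq_comm, semi_eq_one_iff le_rfl]
    have h00 : g.1 0 0 ≠ 0 := fun e0 =>
      ((Matrix.isUnit_iff_isUnit_det _).1 g.isUnit).ne_zero (by
        rw [Matrix.det_fin_two, e0, h01]; ring)
    refine ⟨rfl, Units.mk0 _ h00, Units.ext (Matrix.ext fun a b => ?_)⟩
    fin_cases a <;> fin_cases b <;> simp [h01, h10, ← hd]
  refine ⟨g, rfl, _, htr, rfl, fun hsq => hγ' ?_⟩
  show semi g 1 ∈ (MulAut.conj : PSL2 →* MulAut PSL2).range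
  rw [semi_mem_inn le_rfl]
  obtain ⟨s, hs⟩ := hsq
  have hdet : g.1.det = s * s := by
    rw [← hs, Matrix.det_fin_two, htr]; ring
  have hs0 : s ≠ 0 := fun e => ((Matrix.isUnit_iff_isUnit_det _).1 g.isUnit).ne_zero (by
    rw [hdet, e, mul_zero])
  exact ⟨Units.mk0 s hs0, Units.ext (by simp [pow_two, hdet])⟩

/-- An element of determinant one anticommuting with an outer diagonal involution. -/
theorem exists_anti {g : GL2} {d : F} (h : OuterData g d) (h2 : (2 : F) ≠ 0) :
    ∃ k : SL2, g.1 * k.1 = -(k.1 * g.1) := by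
  set a := g.1 0 0 with ha
  set b := g.1 0 1 with hb
  set c := g.1 1 0 with hc
  have hd := h.d_ne
  have hsq : a * a + b * c = d := h.sq
  obtain ⟨X, y, w, hdet, hanti⟩ : ∃ X y w : F, -(X * X) - y * w = 1 ∧ 2 * a * X + b * w + c * y = 0 := by
    by_cases hb0 : b = 0
    · have ha0 : a ≠ 0 := fun e => hd (by rw [← hsq, e, hb0]; ring)
      refine ⟨-c / (2 * a), 1, -1 - (-c / (2 * a)) * (-c / (2 * a)), by ring, ?_⟩
      rw [hb0]; field_simp; ring
    · obtain ⟨t, Y, hty⟩ : ∃ t Y : F, d * (Y * Y) = 1 + t * t := by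
        obtain ⟨t, Y, hty⟩ := FiniteField.exists_root_sum_quadratic (R := F)
          (f := Polynomial.X ^ 2 + Polynomial.C 1) (g := Polynomial.C (-d) * Polynomial.X ^ 2)
          (by rw [Polynomial.degree_X_pow_add_C (by norm_num)]; norm_num)
          (by rw [Polynomial.degree_C_mul_X_pow 2 (neg_ne_zero.2 hd)]; norm_num)
          (by
            have := Fintype.card F
            obtain ⟨n, -, hn⟩ := FiniteField.card F (ringChar F)
            exact Nat.odd_iff.1 (by
              by_contra hev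
              rw [Nat.not_odd_iff_even] at hev
              exact h2 (by
                have h2' : ringChar F = 2 := FiniteField.even_card_iff_char_two.2 (Nat.even_iff.1 hev)
                have := ringChar.charP F
                rw [h2'] at this
                exact CharTwo.two_eq_zero)))
        refine ⟨t, Y, ?_⟩
        simp [Polynomial.eval_add, Polynomial.eval_mul, Polynomial.eval_pow] at hty
        linear_combination -hty
      refine ⟨t + a * Y, b * Y, -(2 * a * (t + a * Y) + c * (b * Y)) / b, ?_, ?_⟩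
      · field_simp
        linear_combination hty + Y * Y * hsq
      · field_simp
        ring
  refine ⟨⟨!![X, y; w, -X], by rw [Matrix.det_fin_two_of]; linear_combination hdet⟩, ?_⟩
  show g.1 * !![X, y; w, -X] = -(!![X, y; w, -X] * g.1)
  rw [h.eta]
  ext i j
  fin_cases i <;> fin_cases j <;> simp [Matrix.mul_apply, Fin.sum_univ_two] <;>
    first | ring1 | linear_combination hanti | linear_combination -hanti

/-- The fixed involutions of an outer diagonal involution do not all commute. -/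
theorem diag_fix {γ : MulAut PSL2} (hodd : Odd (Fintype.card F)) (h3 : 3 < Fintype.card F)
    (hγ : γ ∈ Cfsg.inndiagPSL 2 F) (hγ' : γ ∉ Cfsg.Inn PSL2) (hγ2 : γ * γ = 1) :
    ∃ x y : PSL2, x * x = 1 ∧ x ≠ 1 ∧ y * y = 1 ∧ y ≠ 1 ∧ γ x = x ∧ γ y = y ∧ x * y ≠ y * x := by
  classical
  obtain ⟨g, rfl, d, hg⟩ := exists_outerData hγ hγ' hγ2
  have h2 := two_ne_zero_of_odd hodd
  have hd := hg.d_ne
  obtain ⟨k, hk⟩ := exists_anti hg h2
  obtain ⟨m, hm0, hm1⟩ : ∃ m : F, m ≠ 0 ∧ d * (m * m) ≠ 1 := by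
    by_contra hall
    push Not at hall
    let f : Fˣ → {m : F // d * (m * m) = 1} := fun u => ⟨u, hall u u.ne_zero⟩
    have hle := Nat.card_le_card_of_injective f fun a b e => Units.ext (congrArg Subtype.val e :)
    rw [OuterData.card_roots h2, Nat.card_units, Nat.card_eq_fintype_card] at hle
    split_ifs at hle <;> omega
  have hne : d * (m * m) - 1 ≠ 0 := sub_ne_zero.2 hm1
  set x := (d * (m * m) + 1) / (d * (m * m) - 1) with hx
  set y := 2 * m / (d * (m * m) - 1) with hy
  have hy0 : y ≠ 0 := div_ne_zero (mul_ne_zero h2 hm0) hne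
  have hxy : x * x - d * (y * y) = 1 := by
    rw [hx, hy, div_mul_div_comm, div_mul_div_comm, mul_div_assoc', ← sub_div,
      div_eq_one_iff_eq (mul_ne_zero hne hne)]
    ring
  let u : SL2 := ⟨x • (1 : M2) + y • g.1, by rw [hg.det_comb, hxy]⟩
  have hgu : g.1 * u.1 = u.1 * g.1 := by
    show g.1 * (x • (1 : M2) + y • g.1) = (x • (1 : M2) + y • g.1) * g.1
    simp [mul_add, add_mul]
  have hguk : g.1 * (u * k).1 = -((u * k).1 * g.1) := by
    show g.1 * (u.1 * k.1) = -((u.1 * k.1) * g.1)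
    rw [← mul_assoc, hgu, mul_assoc, hk, mul_neg, mul_assoc]
  -- anticommuting elements give fixed involutions
  have key : ∀ e : SL2, g.1 * e.1 = -(e.1 * g.1) →
      PSL2Inv.pr e * PSL2Inv.pr e = 1 ∧ PSL2Inv.pr e ≠ 1 ∧ (semi g 1 : MulAut PSL2) (PSL2Inv.pr e) = PSL2Inv.pr e := by
    intro e he
    have hone : e ≠ 1 ∧ e ≠ SL2Inv.negOne := by
      constructor <;> intro e1 <;> rw [e1] at he
      · simp [eq_neg_iff_add_eq_zero, ← two_smul F, h2] at he
      · simp [SL2Inv.coe_negOne] at he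
        rw [neg_eq_iff_add_eq_zero, ← two_smul F, smul_eq_zero, or_iff_right h2] at he
        exact g.ne_zero he
    have htr : e.1 1 1 = -e.1 0 0 := by
      have hginv : g.1 * g⁻¹.1 = 1 := by rw [← Units.val_mul, mul_inv_cancel, Units.val_one]
      have ht : Matrix.trace e.1 = -Matrix.trace e.1 := by
        calc Matrix.trace e.1 = Matrix.trace (e.1 * (g.1 * g⁻¹.1)) := by rw [hginv, mul_one]
          _ = Matrix.trace (g⁻¹.1 * (e.1 * g.1)) := by rw [← mul_assoc, Matrix.trace_mul_comm]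
          _ = Matrix.trace (g⁻¹.1 * -(g.1 * e.1)) := by rw [he, neg_neg]
          _ = -Matrix.trace e.1 := by
            rw [mul_neg, Matrix.trace_neg, ← mul_assoc, ← Units.val_mul, inv_mul_cancel, Units.val_one, one_mul]
      rw [eq_neg_iff_add_eq_zero, ← two_mul, mul_eq_zero, or_iff_right h2, Matrix.trace_fin_two] at ht
      linear_combination ht
    refine ⟨?_, ?_, (semi_fix_iff g e).2 (Or.inr he)⟩
    · rw [← map_mul, ← map_one PSL2Inv.pr, PSL2Inv.pr_eq_iff]
      refine Or.inr (Subtype.ext ?_)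
      have hdet := e.2
      rw [Matrix.det_fin_two, htr] at hdet
      show (1 : M2) = (SL2Inv.negOne : SL2).1 * (e.1 * e.1)
      rw [SL2Inv.coe_negOne]
      ext i j
      fin_cases i <;> fin_cases j <;> simp [Matrix.mul_apply, Fin.sum_univ_two, htr] <;>
        first | ring1 | linear_combination hdet | linear_combination -hdet
    · intro h1
      rw [← map_one PSL2Inv.pr, PSL2Inv.pr_eq_iff] at h1
      rcases h1 with h1 | h1
      · exact hone.1 h1.symm
      · have h' := congrArg (fun m => SL2Inv.negOne * m) h1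
        simp only [← mul_assoc, SL2Inv.negOne_mul_self, one_mul, mul_one] at h'
        exact hone.2 h'.symm
  obtain ⟨p2, p1, pf⟩ := key k hk
  obtain ⟨q2, q1, qf⟩ := key (u * k) hguk
  have hne' : PSL2Inv.pr k ≠ PSL2Inv.pr (u * k) := by
    intro e
    have hu1 : PSL2Inv.pr u = 1 := by
      rw [map_mul] at e
      exact mul_eq_right.1 e.symm
    have hs : u.1 = 1 ∨ u.1 = -1 := by
      rw [← map_one PSL2Inv.pr, PSL2Inv.pr_eq_iff] at hu1
      rcases hu1 with h1 | h1
      · left; rw [← h1]; rfl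
      · right
        have h' := congrArg (fun m => SL2Inv.negOne * m) h1
        simp only [← mul_assoc, SL2Inv.negOne_mul_self, one_mul, mul_one] at h'
        rw [← h', SL2Inv.coe_negOne]
    have hsc : ∀ s : F, u.1 = s • (1 : M2) → False := by
      intro s hs
      change x • (1 : M2) + y • g.1 = s • (1 : M2) at hs
      have e1 : y * g.1 0 1 = 0 := by simpa using congrFun (congrFun hs 0) 1
      have e3 : x + y * g.1 0 0 = s := by simpa using congrFun (congrFun hs 0) 0
      have e4 : x + y * g.1 1 1 = s := by simpa using congrFun (congrFun hs 1) 1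
      have hb := (mul_eq_zero.1 e1).resolve_left hy0
      have ha : g.1 0 0 = 0 := by
        rw [hg.tr] at e4
        have : 2 * (y * g.1 0 0) = 0 := by linear_combination e3 - e4
        exact (mul_eq_zero.1 ((mul_eq_zero.1 this).resolve_left h2)).resolve_left hy0
      exact hd (by rw [← hg.sq, ha, hb]; ring)
    rcases hs with hs | hs
    · exact hsc 1 (by rw [hs, one_smul])
    · exact hsc (-1) (by rw [hs, neg_smul, one_smul])
  refine ⟨PSL2Inv.pr k, PSL2Inv.pr (u * k), p2, p1, q2, q1, pf, qf, fun hcomm => ?_⟩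
  -- commuting would give a four-group of fixed points
  obtain ⟨V, hxV, hyV, hV4, -, hVe⟩ := ZCGroup.exists_four hcomm p2 q2 p1 q1 hne'
  have hle : V ≤ fixedGroup (semi g 1 : MulAut PSL2) := fun v hv => by
    rcases hVe v hv with rfl | rfl | rfl | rfl
    · exact one_mem _
    · exact pf
    · exact qf
    · exact mul_mem (show PSL2Inv.pr k ∈ fixedGroup (semi g 1 : MulAut PSL2) from pf)
        (show PSL2Inv.pr (u * k) ∈ fixedGroup (semi g 1 : MulAut PSL2) from qf)
  have h4 := Subgroup.card_dvd_of_le hle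
  rw [hV4] at h4
  have := (hg.fixed_order hodd hk).1
  omega

theorem eight_dvd_of_field {β : MulAut PSL2} (hodd : Odd (Fintype.card F)) (hβ : β * β = 1)
    (hfld : fldHom β ≠ 1) : 8 ∣ Nat.card PSL2 := by
  have hσ2 : fldHom β * fldHom β = 1 := by rw [← map_mul, hβ, map_one]
  have hσo : orderOf (fldHom β) = 2 := orderOf_eq_prime (by rw [pow_two, hσ2]) hfld
  obtain ⟨K, -, hK⟩ := exists_fixed_field (fldHom β)
  rw [hσo] at hK
  have hKo : Odd (Nat.card K) := by
    rw [hK] at hodd
    exact (Nat.odd_pow_iff two_ne_zero).1 hodd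
  have hc := Dickson.gcd_mul_card_psl (K := F)
  rw [Nat.card_eq_fintype_card (α := F)] at hc
  have h16 : 16 ∣ Fintype.card F ^ 2 - 1 := by
    obtain ⟨j, hj⟩ := hKo
    obtain ⟨l, hl⟩ := Nat.even_mul_succ_self j
    have h1 : Fintype.card F = 8 * l + 1 := by
      rw [hK, hj]
      calc (2 * j + 1) ^ 2 = 4 * (j * (j + 1)) + 1 := by ring
        _ = 8 * l + 1 := by rw [hl]; ring
    refine ⟨4 * (l * l) + l, ?_⟩
    rw [h1]
    have : (8 * l + 1) ^ 2 = 16 * (4 * (l * l) + l) + 1 := by ring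
    omega
  have hd : 16 ∣ Nat.gcd 2 (Fintype.card F - 1) * Nat.card PSL2 := hc ▸ Dvd.dvd.mul_left h16 _
  have hg : Nat.gcd 2 (Fintype.card F - 1) ∣ 2 := Nat.gcd_dvd_left _ _
  have h2 : 2 * 8 ∣ 2 * Nat.card PSL2 := hd.trans (Nat.mul_dvd_mul_right hg _)
  exact Nat.dvd_of_mul_dvd_mul_left two_pos h2

end PSL

theorem odd_invol_seven {π : Equiv.Perm (Fin 7)} (h2 : π * π = 1) (hs : Equiv.Perm.sign π = -1) :
    ∃ a b : Equiv.Perm (Fin 7), Equiv.Perm.sign a = 1 ∧ Equiv.Perm.sign b = 1 ∧ a * a = 1 ∧ b * b = 1 ∧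
      a ≠ 1 ∧ b ≠ 1 ∧ a ≠ b ∧ a * π = π * a ∧ b * π = π * b := by
  classical
  haveI : Fact (Nat.Prime 2) := ⟨Nat.prime_two⟩
  suffices hw : ∀ r : Equiv.Perm (Fin 7), IsConj r π → (∃ a b : Equiv.Perm (Fin 7),
      Equiv.Perm.sign a = 1 ∧ Equiv.Perm.sign b = 1 ∧ a * a = 1 ∧ b * b = 1 ∧
      a ≠ 1 ∧ b ≠ 1 ∧ a ≠ b ∧ a * r = r * a ∧ b * r = r * b) →
      ∃ a b : Equiv.Perm (Fin 7), Equiv.Perm.sign a = 1 ∧ Equiv.Perm.sign b = 1 ∧ a * a = 1 ∧ b * b = 1 ∧
        a ≠ 1 ∧ b ≠ 1 ∧ a ≠ b ∧ a * π = π * a ∧ b * π = π * b by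
    have hne : π ≠ 1 := fun e => by rw [e, map_one] at hs; exact absurd hs (by decide)
    obtain ⟨n, hn⟩ := Equiv.Perm.cycleType_prime_order (σ := π)
      (by rw [Invol.order_two_of_sq h2 hne]; exact Nat.prime_two)
    rw [Invol.order_two_of_sq h2 hne] at hn
    have hle : π.cycleType.sum ≤ 7 := by
      rw [Equiv.Perm.sum_cycleType]
      exact (Finset.card_le_univ _).trans (by simp)
    rw [hn, Multiset.sum_replicate, smul_eq_mul] at hle
    rw [Equiv.Perm.sign_of_cycleType, hn, Multiset.sum_replicate, Multiset.card_replicate] at hs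
    rcases (show n = 0 ∨ n = 1 ∨ n = 2 by omega) with rfl | rfl | rfl
    · refine hw (Equiv.swap 0 1) (Equiv.Perm.isConj_iff_cycleType_eq.2 (by rw [hn]; decide)) ?_
      exact ⟨Equiv.swap 0 1 * Equiv.swap 2 3, Equiv.swap 2 3 * Equiv.swap 4 5, by decide, by decide,
        by decide, by decide, by decide, by decide, by decide, by decide, by decide⟩
    · exact absurd hs (by decide)
    · refine hw (Equiv.swap 0 1 * Equiv.swap 2 3 * Equiv.swap 4 5)
        (Equiv.Perm.isConj_iff_cycleType_eq.2 (by rw [hn]; decide +kernel)) ?_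
      exact ⟨Equiv.swap 0 1 * Equiv.swap 2 3, Equiv.swap 2 3 * Equiv.swap 4 5, by decide, by decide,
        by decide, by decide, by decide, by decide, by decide, by decide, by decide⟩
  rintro r hr ⟨a, b, sa, sb, a2, b2, a1, b1, hab, ha, hb⟩
  obtain ⟨c, hc⟩ := isConj_iff.1 hr
  refine ⟨c * a * c⁻¹, c * b * c⁻¹, ?_, ?_, ?_, ?_, fun e => a1 (conj_eq_one_iff.1 e),
    fun e => b1 (conj_eq_one_iff.1 e), fun e => hab (mul_left_cancel (mul_right_cancel e)), ?_, ?_⟩
  · rw [map_mul, map_mul, map_inv, sa, mul_one, mul_inv_cancel]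
  · rw [map_mul, map_mul, map_inv, sb, mul_one, mul_inv_cancel]
  · rw [show c * a * c⁻¹ * (c * a * c⁻¹) = c * (a * a) * c⁻¹ by group, a2, mul_one, mul_inv_cancel]
  · rw [show c * b * c⁻¹ * (c * b * c⁻¹) = c * (b * b) * c⁻¹ by group, b2, mul_one, mul_inv_cancel]
  · rw [← hc, show c * a * c⁻¹ * (c * r * c⁻¹) = c * (a * r) * c⁻¹ by group, ha]; group
  · rw [← hc, show c * b * c⁻¹ * (c * r * c⁻¹) = c * (b * r) * c⁻¹ by group, hb]; group

/-- An outer involutory automorphism fixes two distinct Sylow 2-subgroups. -/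
theorem two_fixed_sylows {K : Type u} [Group K] [Finite K] [IsSimpleGroup K] (hnc : ¬ IsMulCommutative K)
    (ht : IsTarget K) (hd : DihSylow K) (φ : MulAut K) (hφ : φ * φ = 1) (hout : φ ∉ Cfsg.Inn K) (P : Sylow 2 K)
    (hu : ∀ S : Sylow 2 K, (S : Subgroup K).map φ.toMonoidHom = S → S = P) : False := by
  classical
  haveI : Fact (Nat.Prime 2) := ⟨Nat.prime_two⟩
  have fin : ∀ x y : K, x * x = 1 → x ≠ 1 → y * y = 1 → y ≠ 1 → φ x = x → φ y = y →
      (x * y ≠ y * x ∨ (x ≠ y ∧ 8 ∣ Nat.card K)) → False := by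
    intro x y hx hx1 hy hy1 hfx hfy hor
    obtain ⟨hxP, hxc⟩ := central_of_unique hnc hd φ hφ P hu hx hx1 hfx
    obtain ⟨hyP, hyc⟩ := central_of_unique hnc hd φ hφ P hu hy hy1 hfy
    rcases hor with hne | ⟨hne, h8⟩
    · exact hne (hyc x hxP)
    obtain ⟨n, hn, ⟨e⟩⟩ := hd.all P
    obtain ⟨d, -⟩ := TwoFus.exists_dih P hn e
    have h8P : 8 ∣ Nat.card (P : Subgroup K) :=
      (show 2 ^ 3 ∣ _ from P.pow_dvd_card_of_pow_dvd_card (show 2 ^ 3 ∣ Nat.card K from h8))
    exact hne ((eq_z_of_central d h8P hxP hx hx1 hxc).trans (eq_z_of_central d h8P hyP hy hy1 hyc).symm)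
  rcases ht with ⟨F, i1, i2, hodd, h3, ⟨e⟩⟩ | ⟨⟨e⟩⟩
  · set γ := autCongr e φ with hγ
    have hγ2 : γ * γ = 1 := by rw [hγ, ← map_mul, hφ, map_one]
    have hγo : γ ∉ Cfsg.Inn (ProjectiveSpecialLinearGroup (Fin 2) F) := by
      rintro ⟨b, hb⟩
      refine hout ⟨e.symm b, (autCongr e).injective ?_⟩
      rw [autCongr_conj, MulEquiv.apply_symm_apply, hb]
    have back : ∀ w, γ w = w → φ (e.symm w) = e.symm w := fun w hw => by
      have := congrArg e.symm hw
      rw [hγ] at this
      simpa [autCongr, MulAut.congr] using this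
    have tr : ∀ w : ProjectiveSpecialLinearGroup (Fin 2) F, w * w = 1 → w ≠ 1 →
        e.symm w * e.symm w = 1 ∧ e.symm w ≠ 1 := fun w hw hw1 =>
      ⟨by rw [← map_mul, hw, map_one], fun h => hw1 (e.symm.map_eq_one_iff.1 h)⟩
    by_cases hfld : fldHom γ = 1
    · obtain ⟨x, y, hx, hx1, hy, hy1, fx, fy, hne⟩ :=
        diag_fix hodd h3 ((mem_inndiag_iff_fld γ).2 hfld) hγo hγ2
      exact fin _ _ (tr x hx hx1).1 (tr x hx hx1).2 (tr y hy hy1).1 (tr y hy hy1).2 (back x fx) (back y fy)
        (Or.inl fun h => hne (e.symm.injective (by rw [map_mul, map_mul, h])))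
    · obtain ⟨x, y, hx, hx1, hy, hy1, hne, -, fx, fy⟩ := field_fix_four hodd hγ2 hfld
      exact fin _ _ (tr x hx hx1).1 (tr x hx hx1).2 (tr y hy hy1).1 (tr y hy hy1).2 (back x fx) (back y fy)
        (Or.inr ⟨fun h => hne (e.symm.injective h), Nat.card_congr e.toEquiv ▸ eight_dvd_of_field hodd hγ2 hfld⟩)
  · set γ := autCongr e φ with hγ
    have hb := AutAlt.bijective_conjNormal (n := 7) (by norm_num) (by norm_num)
    obtain ⟨π, hπ⟩ := hb.2 γ
    have hπ2 : π * π = 1 := hb.1 (by rw [map_mul, hπ, map_one, hγ, ← map_mul, hφ, map_one])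
    have hπs : Equiv.Perm.sign π = -1 := by
      refine (Int.units_eq_one_or _).resolve_left fun h1 => hout ?_
      refine ⟨e.symm ⟨π, Equiv.Perm.mem_alternatingGroup.2 h1⟩, (autCongr e).injective ?_⟩
      rw [autCongr_conj, MulEquiv.apply_symm_apply, ← conjNormal_coe, hπ, hγ]
    obtain ⟨a, b, sa, sb, a2, b2, a1, b1, hab, ha, hb'⟩ := odd_invol_seven hπ2 hπs
    have back : ∀ w : alternatingGroup (Fin 7), (w : Equiv.Perm (Fin 7)) * π = π * w →
        φ (e.symm w) = e.symm w := by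
      intro w hw
      have h1 : γ w = w := Subtype.ext (by rw [← hπ, MulAut.conjNormal_apply, ← hw, mul_inv_cancel_right])
      have := congrArg e.symm h1
      rw [hγ] at this
      simpa [autCongr, MulAut.congr] using this
    set A : alternatingGroup (Fin 7) := ⟨a, Equiv.Perm.mem_alternatingGroup.2 sa⟩
    set B : alternatingGroup (Fin 7) := ⟨b, Equiv.Perm.mem_alternatingGroup.2 sb⟩
    refine fin (e.symm A) (e.symm B) ?_ ?_ ?_ ?_ (back A ha) (back B hb') (Or.inr ⟨?_, ?_⟩)
    · rw [← map_mul, show A * A = 1 from Subtype.ext a2, map_one]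
    · exact fun h => a1 (congrArg Subtype.val (e.symm.map_eq_one_iff.1 h))
    · rw [← map_mul, show B * B = 1 from Subtype.ext b2, map_one]
    · exact fun h => b1 (congrArg Subtype.val (e.symm.map_eq_one_iff.1 h))
    · exact fun h => hab (congrArg Subtype.val (e.symm.injective h))
    · rw [Nat.card_congr e.toEquiv]
      have h1 := two_mul_card_alternatingGroup (α := Fin 7)
      rw [Fintype.card_perm, Fintype.card_fin] at h1
      rw [Nat.card_eq_fintype_card]
      exact ⟨315, by simp only [Nat.factorial] at h1; omega⟩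

end Cfsg.Agent.GoldCons.RankOneInter
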