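import Cfsg.Agent.Lib.GoldCons.RankOneInter.OneMain
import Cfsg.Agent.Lib.GoldCons.RankOneInter.Target

/-!
A single component with quaternion Sylow 2-subgroups next to a 2-core of order two is impossible.
-/

set_option autoImplicit false
set_option linter.style.haveILetI false
set_option linter.unusedSectionVars false

namespace Cfsg.Agent.GoldCons.RankOneInter

open Subgroup
open scoped Pointwise

universe u

variable {X : Type u} [Group X] [Finite X]

theorem not_unique (h : Hyp X) (hsmall : ∀ r ∈ Cfsg.pCore 2 X, r * r = 1) {L : Subgroup X}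
    (hL : Cfsg.IsComponent L) (h1 : ¬ HasTwo L) (hu : ∀ M : Subgroup X, Cfsg.IsComponent M → M = L) : False := by
  classical
  haveI : Fact (Nat.Prime 2) := ⟨Nat.prime_two⟩
  obtain ⟨z, hzz, hz1, hcen, huni, hzR, hd, ht⟩ := quat_facts h hL h1
  have hzX : (z : X) * z = 1 := congrArg Subtype.val hzz
  have hzX1 : (z : X) ≠ 1 := fun e => hz1 (Subtype.ext e)
  have hRL : Cfsg.pCore 2 X ≤ L := fun r hr => by
    by_cases hr1 : r = 1
    · rw [hr1]; exact one_mem L
    · rw [h.R_unique hr hzR (hsmall r hr) hr1 hzX hzX1]; exact z.2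
  haveI hLn : L.Normal := ⟨fun x hx g =>
    (hu _ (Components.component_conj hL g)).le ⟨x, hx, rfl⟩⟩
  have hCL : centralizer (L : Set X) ≤ L := by
    have hF : Cfsg.generalizedFittingSubgroup X ≤ L :=
      sup_le (Components.layer_le_iff.2 fun M hM => (hu M hM).le) ((fitting_le_R h.odd).trans hRL)
    exact (centralizer_le hF).trans (Components.centralizer_generalizedFitting_le.trans hF)
  obtain ⟨S⟩ : Nonempty (Sylow 2 X) := inferInstance
  obtain ⟨v, hvS, hvv, hv1, hvz⟩ : ∃ v ∈ (S : Subgroup X), v * v = 1 ∧ v ≠ 1 ∧ v ≠ (z : X) := by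
    obtain ⟨a, ha, b, hb, haa, ha1, hbb, hb1, -, hne⟩ := h.two S
    by_cases haz : a = (z : X)
    · exact ⟨b, hb, hbb, hb1, fun e => hne (haz.trans e.symm)⟩
    · exact ⟨a, ha, haa, ha1, haz⟩
  have hvL : v ∉ L := fun hv => by
    rcases huni ⟨v, hv⟩ (Subtype.ext hvv) with e | e
    · exact hv1 (congrArg Subtype.val e)
    · exact hvz (congrArg Subtype.val e)
  have hvR : v ∉ Cfsg.pCore 2 X := fun hv => hvL (hRL hv)
  set π := QuotientGroup.mk' (center ↥L) with hπ
  have hπs : Function.Surjective π := QuotientGroup.mk'_surjective _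
  set c : MulAut ↥L := MulAut.conjNormal v with hc
  have hcv : ∀ x : ↥L, ((c x : ↥L) : X) = v * x * v⁻¹ := fun x => MulAut.conjNormal_apply v x
  set φ : MulAut (↥L ⧸ center ↥L) := QuotientGroup.congr (center ↥L) (center ↥L) c
    (Subgroup.characteristic_iff_map_eq.1 inferInstance c) with hφdef
  have hφ : ∀ x : ↥L, φ (π x) = π (c x) := fun x => rfl
  have hφ2 : φ * φ = 1 := MulEquiv.ext fun q => by
    obtain ⟨x, rfl⟩ := hπs q
    show φ (φ (π x)) = π x
    rw [hφ, hφ]
    refine congrArg π (Subtype.ext ?_)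
    rw [hcv, hcv, show v * (v * x * v⁻¹) * v⁻¹ = v * v * x * (v * v)⁻¹ by group, hvv, one_mul, inv_one, mul_one]
  have hout : φ ∉ Cfsg.Inn (↥L ⧸ center ↥L) := by
    rintro ⟨q, hq⟩
    obtain ⟨l, rfl⟩ := hπs q
    refine hvL ?_
    have hg : (l : X)⁻¹ * v ∈ centralizer (L : Set X) := by
      refine mem_centralizer_of_mod hL fun x hx => ?_
      have h2 : π (c ⟨x, hx⟩) = π (l * ⟨x, hx⟩ * l⁻¹) := by
        rw [← hφ, ← hq, MulAut.conj_apply, map_mul, map_mul, map_inv]
      have h3 : (l * ⟨x, hx⟩ * l⁻¹)⁻¹ * c ⟨x, hx⟩ ∈ center ↥L := (QuotientGroup.eq_one_iff _).1 (by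
        show π _ = 1
        rw [map_mul, map_inv, h2, inv_mul_cancel])
      refine ⟨_, h3, ?_⟩
      have hcm := congrArg Subtype.val (mem_center_iff.1 h3 (l * (⟨x, hx⟩ : ↥L)⁻¹))
      simp only [coe_mul, coe_inv, hcv] at hcm ⊢
      rw [show (l : X)⁻¹ * v * x * ((l : X)⁻¹ * v)⁻¹ * x⁻¹ = ((l : X) * x⁻¹)⁻¹ *
        (((l : X) * x * (l : X)⁻¹)⁻¹ * (v * x * v⁻¹) * ((l : X) * x⁻¹)) by group, ← hcm, inv_mul_cancel_left]
    have := mul_mem l.2 (hCL hg)
    rwa [mul_inv_cancel_left] at this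
  haveI := quot_simple hL
  obtain ⟨T, hT⟩ := exists_syl hL S
  refine two_fixed_sylows (quot_noncomm hL) ht hd φ hφ2 hout (T.mapSurjective hπs) fun U hU => ?_
  obtain ⟨g₁, hg₁⟩ := MulAction.exists_smul_eq (↥L ⧸ center ↥L) (T.mapSurjective hπs) U
  obtain ⟨g, rfl⟩ := hπs g₁
  set W := g • T with hW
  have hUW : ∀ x : ↥L, π x ∈ (U : Subgroup (↥L ⧸ center ↥L)) ↔ x ∈ (W : Subgroup ↥L) := by
    intro x
    rw [← hg₁, hW, CentralInter.mem_smul_sylow, CentralInter.mem_smul_sylow, Sylow.coe_mapSurjective,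
      ← map_inv, ← map_mul, ← map_mul, ← mem_comap, comap_map_eq_self]
    rw [QuotientGroup.ker_mk']
    exact IsPGroup.le_sylow_of_normal (center_two h.odd hL) T
  set W' := (W : Subgroup ↥L).map L.subtype with hW'
  have hvW : v ∈ normalizer (W' : Set X) := by
    refine SEBrick.mem_normalizer_of fun w hw => ?_
    obtain ⟨w, hw, rfl⟩ := hw
    refine ⟨c w, (hUW _).1 ?_, hcv w⟩
    rw [← hφ, ← hU]
    exact mem_map_of_mem φ.toMonoidHom ((hUW w).2 hw)
  have hp : IsPGroup 2 ↥(zpowers v) := IsPGroup.of_card (n := 1) (by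
    rw [Nat.card_zpowers, Invol.order_two_of_sq hvv hv1, pow_one])
  obtain ⟨S', hS'⟩ := (IsPGroup.to_sup_of_normal_right' hp (W.2.map L.subtype)
    (zpowers_le.2 hvW)).exists_le_sylow
  have he : S' = S := h.eq_of_invol (fun e => hzX1 (by rw [e, mem_bot] at hzR; exact hzR)) hvv hvR
    (hS' (mem_sup_left (mem_zpowers v))) hvS
  subst he
  have hWT : W = T := Sylow.ext ((W.is_maximal' T.2 fun x hx => by
    rw [hT, mem_subgroupOf]
    exact hS' (mem_sup_right (mem_map_of_mem L.subtype hx))).symm)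
  refine Sylow.ext (Subgroup.ext fun q => ?_)
  obtain ⟨x, rfl⟩ := hπs q
  rw [hUW, hWT, Sylow.coe_mapSurjective, ← mem_comap, comap_map_eq_self]
  rw [QuotientGroup.ker_mk']
  exact IsPGroup.le_sylow_of_normal (center_two h.odd hL) T

end Cfsg.Agent.GoldCons.RankOneInter
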