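import Cfsg.Agent.Lib.GoldCons.RankOneInter.Small
import Cfsg.Agent.Lib.GoldCons.RankOneInter.Unique
import Cfsg.Agent.Lib.GoldCons.RankOneInter.Pair

/-!
The dichotomy for groups with trivial odd core.
-/

set_option autoImplicit false
set_option linter.style.haveILetI false
set_option linter.unusedSectionVars false

namespace Cfsg.Agent.GoldCons.RankOneInter

open Subgroup

universe u

variable {X : Type u} [Group X] [Finite X]

theorem outA_or_outB (hA : ClosedStmt.{u}) (h : Hyp X) : OutA X ∨ OutB X := by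
  classical
  haveI : Fact (Nat.Prime 2) := ⟨Nat.prime_two⟩
  have hR := h.R_ne_bot hA
  by_cases hex : ∃ L : Subgroup X, Cfsg.IsComponent L ∧ HasTwo L
  · obtain ⟨L, hL, hL2⟩ := hex
    refine Or.inl (outA_of_det h hL (det_of_two h hL hL2) ?_)
    by_cases hZ : center ↥L = ⊥
    · exact se_simple h hR hL hZ
    · exact se_cover hA h hL hL2 hZ
  push Not at hex
  obtain ⟨L, hL⟩ := h.exists_component
  by_cases hbig : ∃ r ∈ Cfsg.pCore 2 X, r * r ≠ 1
  · obtain ⟨r, hr, hr1⟩ := hbig
    obtain ⟨k, hk⟩ := IsPGroup.iff_orderOf.1 (R_isPGroup (X := X)) ⟨r, hr⟩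
    rw [orderOf_mk] at hk
    obtain ⟨j, rfl⟩ : ∃ j, k = j + 2 := by
      rcases k with _ | _ | j
      · rw [pow_zero, orderOf_eq_one_iff] at hk; exact absurd (by rw [hk, mul_one]) hr1
      · exact absurd (by rw [← pow_two, show (2 : ℕ) = orderOf r by rw [hk]; norm_num, pow_orderOf_eq_one]) hr1
      · exact ⟨j, rfl⟩
    have ho : orderOf (r ^ 2 ^ j) = 4 := by
      rw [orderOf_pow_of_dvd (pow_ne_zero _ two_ne_zero) ⟨4, by rw [hk, pow_add]; norm_num⟩, hk, pow_add,
        Nat.mul_div_cancel_left _ (pow_pos two_pos _)]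
      norm_num
    obtain ⟨hD, hSE⟩ := det_quat h hL (hex L hL) (r := r ^ 2 ^ j) (pow_mem hr _) (fun e => by
        have := Nat.le_of_dvd two_pos (orderOf_dvd_of_pow_eq_one (by rwa [pow_two] : (r ^ 2 ^ j) ^ 2 = 1))
        omega) (by
        have := pow_orderOf_eq_one (r ^ 2 ^ j)
        rw [ho, show (4 : ℕ) = 2 + 2 from rfl, pow_add, pow_two] at this
        exact this)
    exact Or.inl (outA_of_det h hL hD hSE)
  · push Not at hbig
    by_cases hu : ∀ M : Subgroup X, Cfsg.IsComponent M → M = L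
    · exact absurd (not_unique h hbig hL (hex L hL) hu) not_false
    · push Not at hu
      obtain ⟨M, hM, hne⟩ := hu
      exact Or.inr (Two2.outB ⟨h, hbig, hex, hL, hM, hne.symm⟩)

end Cfsg.Agent.GoldCons.RankOneInter
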