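import Cfsg.Agent.Lib.GoldCons.CentralInter
import Cfsg.Agent.Lib.GoldCons.CyclicInter.Outer
import Cfsg.Agent.Lib.Walter4.Rank4
import Cfsg.Agent.Lib.AbelianTwo.Cover
import Cfsg.Agent.Lib.GW.DihBasic

/-!
Simple groups with trivially intersecting Sylow 2-subgroups: equivalence with a strongly embedded subgroup, and the
dihedral case, which is the group of order sixty.
-/

set_option autoImplicit false
set_option linter.style.haveILetI false
set_option linter.unusedSectionVars false

namespace Cfsg.Agent.GoldCons.RankOneInter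

open Subgroup
open scoped Pointwise

universe u

/-- Distinct Sylow 2-subgroups share no involution. -/
def TI (K : Type u) [Group K] : Prop :=
  ∀ S T : Sylow 2 K, ∀ x ∈ (S : Subgroup K) ⊓ (T : Subgroup K), x * x = 1 → x ≠ 1 → S = T

variable {K : Type u} [Group K] [Finite K]

theorem TI.inter (h : TI K) {S T : Sylow 2 K} {x : K} (hxS : x ∈ (S : Subgroup K)) (hxT : x ∈ (T : Subgroup K))
    (hx : x ≠ 1) : S = T := by
  obtain ⟨k, hk⟩ := IsPGroup.iff_orderOf.1 S.2 ⟨x, hxS⟩
  rw [orderOf_mk] at hk
  obtain ⟨j, rfl⟩ : ∃ j, k = j + 1 := by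
    rcases k with _ | j
    · rw [pow_zero, orderOf_eq_one_iff] at hk; exact absurd hk hx
    · exact ⟨j, rfl⟩
  refine h S T (x ^ 2 ^ j) ⟨pow_mem hxS _, pow_mem hxT _⟩ ?_ ?_
  · rw [← pow_add, ← two_mul, ← pow_succ', ← hk, pow_orderOf_eq_one]
  · intro e
    have := Nat.le_of_dvd (pow_pos two_pos _) (orderOf_dvd_of_pow_eq_one e)
    rw [hk] at this
    exact absurd this (not_le.2 (pow_lt_pow_right₀ one_lt_two (Nat.lt_succ_self j)))

/-- Transport of a strongly embedded subgroup. -/
theorem se_transport {M : Type u} [Group M] (e : K ≃* M) (h : ∃ H : Subgroup K, Cfsg.IsStronglyEmbedded H) :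
    ∃ H : Subgroup M, Cfsg.IsStronglyEmbedded H := by
  obtain ⟨H, htop, heven, hodd⟩ := h
  refine ⟨H.map e.toMonoidHom, fun he => htop (eq_top_iff.2 fun x _ => ?_), ?_, fun g hg => ?_⟩
  · obtain ⟨y, hy, hxy⟩ := he.ge (mem_top (e x))
    rwa [← e.injective hxy]
  · rwa [card_map_of_injective e.injective]
  · have hg' : e.symm g ∉ H := fun hm => hg ⟨_, hm, e.apply_symm_apply g⟩
    have := hodd _ hg'
    rwa [← card_map_of_injective (K := H ⊓ H.map (MulAut.conj (e.symm g)).toMonoidHom) (f := e.toMonoidHom)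
      e.injective, map_inf _ _ _ e.injective, map_map,
      show e.toMonoidHom.comp (MulAut.conj (e.symm g)).toMonoidHom =
        (MulAut.conj g).toMonoidHom.comp e.toMonoidHom from MonoidHom.ext fun x => by simp,
      ← map_map] at this

/-- A strongly embedded subgroup makes the Sylow 2-subgroups intersect trivially. -/
theorem ti_of_se [IsSimpleGroup K] {H : Subgroup K} (hH : Cfsg.IsStronglyEmbedded H) : TI K := by
  haveI : Fact (Nat.Prime 2) := ⟨Nat.prime_two⟩
  obtain ⟨Q₀, hQ₀⟩ := SEMain.exists_reg_simple SEMain.stmt hH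
  obtain ⟨S₀, hS₀⟩ := hQ₀.exists_sylow hH
  have hpt : ∀ T : Sylow 2 K, ∃ c : K ⧸ H, (T : Subgroup K) ≤ MulAction.stabilizer K c := by
    intro T
    obtain ⟨g, hg⟩ := MulAction.exists_smul_eq K S₀ T
    refine ⟨g • ((1 : K) : K ⧸ H), ?_⟩
    rw [← hg, Sylow.coe_subgroup_smul, MulAction.stabilizer_smul_eq_stabilizer_map_conj,
      MulAction.stabilizer_quotient, hS₀]
    exact Subgroup.map_mono hQ₀.le
  intro S T x hx hxx hx1
  obtain ⟨a, ha⟩ := hpt S
  obtain ⟨b, hb⟩ := hpt T
  have hab : a = b := Invol.se_fix_unique hH (Invol.order_two_of_sq hxx hx1) (ha hx.1) (hb hx.2)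
  subst hab
  have hH' := SEMain.se_stab hH a
  obtain ⟨Q, hQ⟩ := SEMain.exists_reg_simple SEMain.stmt hH'
  have key : ∀ U : Sylow 2 K, (U : Subgroup K) ≤ MulAction.stabilizer K a → (U : Subgroup K) = Q := by
    intro U hU
    refine (U.is_maximal' hQ.two fun y hy => ?_).symm
    obtain ⟨k, hk⟩ := IsPGroup.iff_orderOf.1 U.2 ⟨y, hy⟩
    rw [orderOf_mk] at hk
    exact hQ.mem_of_two hH' (hU hy) ⟨k, hk⟩
  exact Sylow.ext ((key S ha).trans (key T hb).symm)

/-- An element of two-power order normalising a Sylow subgroup lies in it. -/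
theorem mem_of_normalizer {T : Sylow 2 K} {x : K} (hx : x ∈ normalizer ((T : Subgroup K) : Set K)) {k : ℕ}
    (hk : orderOf x = 2 ^ k) : x ∈ (T : Subgroup K) :=
  CyclicInter.mem_of_two_normalizer hx (k := k) (hk ▸ pow_orderOf_eq_one x)

/-- Trivially intersecting Sylow 2-subgroups give a strongly embedded subgroup. -/
theorem se_of_ti [IsSimpleGroup K] (hnc : ¬ IsMulCommutative K) (h : TI K) :
    ∃ H : Subgroup K, Cfsg.IsStronglyEmbedded H := by
  haveI : Fact (Nat.Prime 2) := ⟨Nat.prime_two⟩
  obtain ⟨T⟩ : Nonempty (Sylow 2 K) := inferInstance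
  have h2 : 2 ∣ Nat.card (T : Subgroup K) := T.dvd_card_of_dvd_card (two_dvd_card hnc)
  refine ⟨normalizer ((T : Subgroup K) : Set K), fun he => ?_, ?_, fun g hg => ?_⟩
  · rcases (normalizer_eq_top_iff.1 he).eq_bot_or_eq_top with hb | ht
    · rw [hb, card_bot] at h2
      omega
    · have hsol : Group.IsSolvable K := by
        haveI := T.isPGroup'.isNilpotent
        haveI : Group.IsSolvable (T : Subgroup K) := inferInstance
        exact (Components.isSolvable_congr ((MulEquiv.subgroupCongr ht).trans topEquiv)).1 inferInstance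
      refine hnc ⟨⟨fun a b => ?_⟩⟩
      have h3 : commutator K = ⊥ := (inferInstance : (commutator K).Normal).eq_bot_or_eq_top.resolve_right
        (Group.IsSolvable.commutator_lt_top_of_nontrivial K).ne
      have := commutator_mem_commutator (mem_top a) (mem_top b)
      rw [← _root_.commutator_def, h3, mem_bot] at this
      exact commutatorElement_eq_one_iff_mul_comm.1 this
  · exact even_iff_two_dvd.2 (h2.trans (card_dvd_of_le le_normalizer))
  · rw [← Nat.not_even_iff_odd]
    intro heven
    obtain ⟨⟨x, hx⟩, hxo⟩ := exists_prime_orderOf_dvd_card' 2 (even_iff_two_dvd.1 heven)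
    rw [orderOf_mk] at hxo
    obtain ⟨hxN, y, hy, hyx⟩ := hx
    have hxT : x ∈ (T : Subgroup K) := mem_of_normalizer hxN (k := 1) (by rw [hxo, pow_one])
    have hyo : orderOf y = 2 ^ 1 := by
      rw [pow_one, ← hxo, ← hyx]
      exact (orderOf_injective _ (MulAut.conj g).injective y).symm
    have hyT : y ∈ (T : Subgroup K) := mem_of_normalizer hy hyo
    refine hg (Sylow.smul_eq_iff_mem_normalizer.1 (h.inter (x := x) ?_ hxT ?_))
    · rw [CentralInter.mem_smul_sylow, ← hyx]
      show g⁻¹ * (g * y * g⁻¹) * g ∈ (T : Subgroup K)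
      rwa [show g⁻¹ * (g * y * g⁻¹) * g = y by group]
    · intro e
      rw [e, orderOf_one] at hxo
      omega

/-- Dihedral trivially intersecting Sylow 2-subgroups: the group of order sixty. -/
theorem psl_five_of_dihedral [IsSimpleGroup K] (hnc : ¬ IsMulCommutative K) (h : TI K) (T : Sylow 2 K) {n : ℕ}
    (hn : 2 ≤ n) (e : (T : Subgroup K) ≃* DihedralGroup n) :
    Nonempty (K ≃* Matrix.ProjectiveSpecialLinearGroup (Fin 2) (ZMod 5)) := by
  classical
  haveI : Fact (Nat.Prime 2) := ⟨Nat.prime_two⟩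
  obtain ⟨H, hH⟩ := se_of_ti hnc h
  obtain ⟨P, hP⟩ := CyclicInter.spread_se K hH T
  have hcomm : ∀ i j : ZMod n, (DihedralGroup.sr i : DihedralGroup n) * DihedralGroup.sr j =
      DihedralGroup.sr j * DihedralGroup.sr i := by
    intro i j
    have key : ∀ i : ZMod n, ((e.symm (DihedralGroup.sr i) : (T : Subgroup K)) : K) ∈ P := fun i => by
      refine (hP.facts.mem_iff _ (e.symm (DihedralGroup.sr i)).2).1 ?_
      rw [← coe_mul, ← map_mul, DihedralGroup.sr_mul_sr, sub_self, DihedralGroup.r_zero, map_one, coe_one]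
    exact e.symm.injective (Subtype.ext (by
      rw [map_mul, map_mul, coe_mul, coe_mul]; exact hP.facts.comm _ (key i) _ (key j)))
  have hn2 : n = 2 := by
    have h2 := hcomm 0 1
    rw [DihedralGroup.sr_mul_sr, DihedralGroup.sr_mul_sr, DihedralGroup.r.injEq, sub_zero, zero_sub] at h2
    have h3 : ((2 : ℕ) : ZMod n) = 0 := by
      rw [Nat.cast_two]
      linear_combination h2
    exact le_antisymm (Nat.le_of_dvd two_pos ((ZMod.natCast_eq_zero_iff _ _).1 h3)) hn
  subst hn2
  have hT4 : Nat.card (T : Subgroup K) = 4 := by rw [Nat.card_congr e.toEquiv, DihedralGroup.nat_card]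
  have h8 : ¬ 8 ∣ Nat.card K := by
    intro hd
    have h3 : 3 ≤ (Nat.card K).factorization 2 :=
      (Nat.Prime.pow_dvd_iff_le_factorization Nat.prime_two Nat.card_pos.ne').1 hd
    have h4 : 2 ^ 3 ≤ 2 ^ (Nat.card K).factorization 2 := Nat.pow_le_pow_right two_pos h3
    rw [← T.card_eq_multiplicity, hT4] at h4
    omega
  have hab : ∀ S : Sylow 2 K, IsMulCommutative (S : Subgroup K) := fun S => by
    have h4 : Nat.card (S : Subgroup K) = 2 ^ 2 := by rw [Nat.card_congr (S.equiv T).toEquiv, hT4]; rfl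
    exact IsPGroup.isMulCommutative_of_card_eq_prime_sq h4
  rcases Walter4.good K inferInstance hnc hab with ⟨F, i1, i2, hF, ⟨f⟩⟩ | hR
  swap
  · obtain ⟨-, S, hE, -⟩ := hR
    exact absurd (hE.card ▸ card_subgroup_dvd_card (S : Subgroup K)) h8
  suffices hq : Fintype.card F = 4 ∨ Fintype.card F = 5 by
    obtain ⟨g⟩ := AbelianTwo.psl_four_five hq
    exact ⟨f.trans g⟩
  rcases hF with ⟨hq8, h5⟩ | ⟨m, hm, hq⟩
  swap
  · left
    have c := Dickson.gcd_mul_card_psl (K := F)
    rw [Nat.card_eq_fintype_card (α := F), hq] at c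
    have hg : Nat.gcd 2 (2 ^ m - 1) = 1 := by
      refine (Nat.coprime_two_left).2 ?_
      have hm1 : 1 ≤ 2 ^ m := Nat.one_le_two_pow
      have hev : Even (2 ^ m) := Even.pow_of_ne_zero even_two (by omega)
      exact Nat.Even.sub_odd hm1 hev odd_one
    rw [hg, one_mul, ← Nat.card_congr f.toEquiv] at c
    have hm2 : m = 2 := by
      by_contra hne
      exact h8 (c ▸ dvd_mul_of_dvd_left ((show 2 ^ 3 ∣ 2 ^ m from pow_dvd_pow 2 (by omega))) _)
    rw [hq, hm2]
    rfl
  right
  by_contra hne
  have h5' : 5 < Fintype.card F := by omega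
  have hodd : Odd (Fintype.card F) := Nat.odd_iff.2 (by omega)
  have h2F := Walter8.two_ne_zero_of_odd hodd
  have hsq : ∀ x ∈ (T : Subgroup K), x * x = 1 := by
    intro x hx
    have hd : ∀ d : DihedralGroup 2, d * d = 1 := by decide
    have := congrArg Subtype.val (e.injective (by rw [map_mul, map_one, hd]) :
      (⟨x, hx⟩ : (T : Subgroup K)) * ⟨x, hx⟩ = 1)
    exact this
  haveI := hab T
  obtain ⟨⟨x, hxT⟩, hx1⟩ := @exists_ne _ (Finite.one_lt_card_iff_nontrivial.1
    (show 1 < Nat.card (T : Subgroup K) by omega)) (1 : (T : Subgroup K))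
  replace hx1 : x ≠ 1 := fun he => hx1 (Subtype.ext he)
  have hX : f x * f x = 1 := by rw [← map_mul, hsq x hxT, map_one]
  obtain ⟨-, hor⟩ := SubThree.card_cent_invol hodd hX fun he => hx1 (f.map_eq_one_iff.1 he)
  have hcent : Nat.card (centralizer ({x} : Set K)) = Nat.card (centralizer ({f x} : Set _)) :=
    Nat.card_congr (f.toEquiv.subtypeEquiv fun c => by
      rw [mem_centralizer_singleton_iff, mem_centralizer_singleton_iff]
      show c * x = x * c ↔ f c * f x = f x * f c
      rw [← map_mul, ← map_mul, f.injective.eq_iff])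
  rw [← hcent] at hor
  have hle : centralizer ({x} : Set K) ≤ (T : Subgroup K) := by
    have hN : centralizer ({x} : Set K) ≤ normalizer ((T : Subgroup K) : Set K) := by
      intro c hc
      refine Sylow.smul_eq_iff_mem_normalizer.1 (h.inter (x := x) ?_ hxT hx1)
      rwa [CentralInter.mem_smul_sylow, mul_assoc, ← mem_centralizer_singleton_iff.1 hc, inv_mul_cancel_left]
    -- odd elements act trivially on the four-group, hence are trivial
    have hodd1 : ∀ y ∈ centralizer ({x} : Set K), Odd (orderOf y) → y = 1 := by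
      intro y hy hyo
      have hyx := mem_centralizer_singleton_iff.1 hy
      obtain ⟨⟨b, hbT⟩, hb⟩ : ∃ b : (T : Subgroup K), b ≠ 1 ∧ b ≠ ⟨x, hxT⟩ := by
        by_contra hno
        push Not at hno
        have hs : (Set.univ : Set (T : Subgroup K)) ⊆ {1, ⟨x, hxT⟩} := fun c _ => by
          by_cases hc : c = 1
          · exact Or.inl hc
          · exact Or.inr (hno c hc)
        have h1 := Set.ncard_le_ncard hs
        rw [Set.ncard_univ, hT4, Set.ncard_pair (fun he => hx1 (congrArg Subtype.val he).symm)] at h1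
        omega
      have hb1 : b ≠ 1 := fun he => hb.1 (Subtype.ext he)
      have hbx : b ≠ x := fun he => hb.2 (Subtype.ext he)
      have hxb : x * b = b * x := congrArg Subtype.val (mul_comm' (⟨x, hxT⟩ : (T : Subgroup K)) ⟨b, hbT⟩)
      -- the conjugates of `b`
      have hconj : ∀ c ∈ (T : Subgroup K), c ≠ 1 → c ≠ x → c = b ∨ c = x * b := by
        intro c hc hc1 hcx
        by_contra hno
        push Not at hno
        have hs : ({1, x, b, x * b, c} : Finset K) ⊆ ((T : Subgroup K) : Set K).toFinite.toFinset := by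
          intro w hw
          simp only [Finset.mem_insert, Finset.mem_singleton] at hw
          rw [Set.Finite.mem_toFinset]
          rcases hw with rfl | rfl | rfl | rfl | rfl
          exacts [one_mem _, hxT, hbT, mul_mem hxT hbT, hc]
        have h1 := Finset.card_le_card hs
        rw [← Set.ncard_eq_toFinset_card, ← Nat.card_coe_set_eq] at h1
        change _ ≤ Nat.card (T : Subgroup K) at h1
        rw [hT4] at h1
        have hxb1 : x * b ≠ 1 := fun he => hbx (by
          rw [← inv_eq_of_mul_eq_one_right he]; exact inv_eq_of_mul_eq_one_right (hsq x hxT))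
        rw [Finset.card_insert_of_notMem (by simp [hx1.symm, hb1.symm, hxb1.symm, hc1.symm]),
          Finset.card_insert_of_notMem (by simp [hbx.symm, hcx.symm, hb1]),
          Finset.card_insert_of_notMem (by simp [hno.1.symm, hx1]),
          Finset.card_insert_of_notMem (by simp [hno.2.symm]), Finset.card_singleton] at h1
        omega
      have hyb : y * b * y⁻¹ = b := by
        have hbmem : ∀ c ∈ (T : Subgroup K), c ≠ 1 → c ≠ x → y * c * y⁻¹ = b ∨ y * c * y⁻¹ = x * b := by
          intro c hc hc1 hcx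
          refine hconj _ ((mem_normalizer_iff.1 (hN hy) c).1 hc) (fun he => hc1 (conj_eq_one_iff.1 he))
            fun he => hcx (mul_left_cancel (mul_right_cancel (he.trans
              (by rw [hyx, mul_inv_cancel_right]) : y * c * y⁻¹ = y * x * y⁻¹)))
        rcases hbmem b hbT hb1 hbx with hh | hh
        · exact hh
        exfalso
        have h2 : y ^ 2 * b * (y ^ 2)⁻¹ = b := by
          rw [pow_two, show y * y * b * (y * y)⁻¹ = y * (y * b * y⁻¹) * y⁻¹ by group, hh,
            show y * (x * b) * y⁻¹ = y * x * y⁻¹ * (y * b * y⁻¹) by group, hyx, mul_inv_cancel_right, hh,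
            ← mul_assoc, hsq x hxT, one_mul]
        obtain ⟨k, hk⟩ := hyo
        have hpow : ∀ j : ℕ, (y ^ 2) ^ j * b * ((y ^ 2) ^ j)⁻¹ = b := by
          intro j
          exact mul_inv_eq_iff_eq_mul.2 (((show Commute (y ^ 2) b from mul_inv_eq_iff_eq_mul.1 h2).pow_left j).eq)
        have h3 := hpow (k + 1)
        rw [← pow_mul, show 2 * (k + 1) = 2 * k + 1 + 1 by omega, ← hk, pow_succ, pow_orderOf_eq_one, one_mul,
          hh] at h3
        exact hx1 (mul_eq_right.1 h3)
      have h1 : f y = 1 := by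
        refine klein_cent h2F (u := f x) (v := f b) hX (fun he => hx1 (f.map_eq_one_iff.1 he))
          (by rw [← map_mul, hsq b hbT, map_one]) (fun he => hb1 (f.map_eq_one_iff.1 he))
          (fun he => hbx (f.injective he)) ?_ ?_ ?_ ?_
        · rw [← map_mul, ← map_mul, hxb]
        · rw [← map_mul, ← map_mul, hyx]
        · rw [← map_mul, ← map_mul, mul_inv_eq_iff_eq_mul.1 hyb]
        · exact (orderOf_injective f.toMonoidHom f.injective y).symm ▸ hyo
      exact f.map_eq_one_iff.1 h1
    intro c hc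
    obtain ⟨k, m, hm, hkm⟩ := Nat.exists_eq_two_pow_mul_odd (orderOf_pos c).ne'
    have h1 : c ^ 2 ^ k = 1 := hodd1 _ (pow_mem hc _) (by
      rw [orderOf_pow_of_dvd (pow_ne_zero _ two_ne_zero) ⟨m, hkm⟩, hkm,
        Nat.mul_div_cancel_left _ (pow_pos two_pos _)]
      exact hm)
    exact CyclicInter.mem_of_two_normalizer (hN hc) h1
  have hle' := Nat.le_of_dvd (by omega) (card_dvd_of_le hle)
  omega

end Cfsg.Agent.GoldCons.RankOneInter
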