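import Cfsg.Agent.Lib.GoldCons.RankOneInter.Struct
import Cfsg.Agent.Lib.GoldCons.RankOneInter.TI
import Cfsg.Agent.Lib.Components.PTerminalPerfect

/-!
Components: their Sylow subgroups, the case where these determine the Sylow subgroup, and the product decomposition
of a Sylow subgroup.
-/

set_option autoImplicit false
set_option linter.style.haveILetI false
set_option linter.unusedSectionVars false

namespace Cfsg.Agent.GoldCons.RankOneInter

open Subgroup
open scoped Pointwise commutatorElement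

universe u

variable {X : Type u} [Group X] [Finite X] {L : Subgroup X}

/-- The trace of a Sylow subgroup on a component. -/
theorem exists_syl (hL : Cfsg.IsComponent L) (S : Sylow 2 X) :
    ∃ T : Sylow 2 ↥L, (T : Subgroup ↥L) = (S : Subgroup X).subgroupOf L := by
  haveI : Fact (Nat.Prime 2) := ⟨Nat.prime_two⟩
  exact ⟨(S.2.comap_of_injective L.subtype L.subtype_injective).toSylow
    (PTerm.sylow_inf_subnormal S.not_dvd_index hL.1), IsPGroup.toSylow_coe _ _⟩

/-- Every Sylow subgroup of a subgroup is a trace. -/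
theorem exists_over (T : Sylow 2 ↥L) :
    ∃ S : Sylow 2 X, (T : Subgroup ↥L) = (S : Subgroup X).subgroupOf L := by
  obtain ⟨S, hS⟩ := (T.2.map L.subtype).exists_le_sylow
  exact ⟨S, (T.is_maximal' (S.2.comap_of_injective L.subtype L.subtype_injective) (map_le_iff_le_comap.1 hS)).symm⟩

theorem perfect_comp (hL : Cfsg.IsComponent L) : commutator ↥L = ⊤ := hL.2.1.commutator_eq_top

theorem center_two (hO : Cfsg.oddCore X = ⊥) (hL : Cfsg.IsComponent L) : IsPGroup 2 ↥(center ↥L) :=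
  (R_isPGroup.to_le (center_map_le_R hO hL)).of_equiv
    (equivMapOfInjective _ L.subtype L.subtype_injective).symm

theorem mem_center_iff_R (hO : Cfsg.oddCore X = ⊥) (hL : Cfsg.IsComponent L) (x : ↥L) :
    x ∈ center ↥L ↔ (x : X) ∈ Cfsg.pCore 2 X :=
  ⟨fun hx => center_map_le_R hO hL (mem_map_of_mem L.subtype hx), fun hx => inf_R_le_center hL x.2 hx⟩

theorem quot_simple (hL : Cfsg.IsComponent L) : IsSimpleGroup (↥L ⧸ center ↥L) := hL.2.2

theorem quot_noncomm (hL : Cfsg.IsComponent L) : ¬ IsMulCommutative (↥L ⧸ center ↥L) := by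
  intro hc
  refine Components.quasisimple_center_ne_top hL.2 (top_le_iff.1 ?_)
  rw [← perfect_comp hL, _root_.commutator_def, commutator_le]
  intro a _ b _
  rw [← QuotientGroup.eq_one_iff]
  simp only [commutatorElement_def, QuotientGroup.mk_mul, QuotientGroup.mk_inv]
  rw [hc.is_comm.comm (a : ↥L ⧸ center ↥L) b]
  group

/-- Commutation modulo the centre of a perfect group is commutation. -/
theorem mem_centralizer_of_mod (hL : Cfsg.IsComponent L) {g : X}
    (hg : ∀ x (hx : x ∈ L), ∃ c ∈ center ↥L, g * x * g⁻¹ * x⁻¹ = (c : X)) : g ∈ centralizer (L : Set X) := by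
  have hc : ∀ {c : ↥L}, c ∈ center ↥L → ∀ x ∈ L, x * (c : X) = c * x := fun {c} h x hx =>
    congrArg Subtype.val (mem_center_iff.1 h ⟨x, hx⟩)
  let K : Subgroup ↥L :=
    { carrier := {x | g * (x : X) * g⁻¹ = x}
      one_mem' := by simp
      mul_mem' := fun {a b} ha hb => by
        show g * ((a : X) * b) * g⁻¹ = a * b
        rw [show g * ((a : X) * b) * g⁻¹ = g * a * g⁻¹ * (g * b * g⁻¹) by group, show g * (a : X) * g⁻¹ = a from ha,
          show g * (b : X) * g⁻¹ = b from hb]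
      inv_mem' := fun {a} ha => by
        show g * (a : X)⁻¹ * g⁻¹ = (a : X)⁻¹
        rw [show g * (a : X)⁻¹ * g⁻¹ = (g * a * g⁻¹)⁻¹ by group, show g * (a : X) * g⁻¹ = a from ha] }
  have hK : commutator ↥L ≤ K := by
    rw [_root_.commutator_def, commutator_le]
    intro a _ b _
    obtain ⟨c, hcc, ha⟩ := hg a a.2
    obtain ⟨d, hdc, hb⟩ := hg b b.2
    show g * ((⁅a, b⁆ : ↥L) : X) * g⁻¹ = ((⁅a, b⁆ : ↥L) : X)
    rw [mul_inv_eq_iff_eq_mul] at ha hb
    simp only [commutatorElement_def, coe_mul, coe_inv]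
    calc g * ((a : X) * b * (a : X)⁻¹ * (b : X)⁻¹) * g⁻¹
        = g * a * g⁻¹ * (g * b * g⁻¹) * (g * a * g⁻¹)⁻¹ * (g * b * g⁻¹)⁻¹ := by group
      _ = (c : X) * a * ((d : X) * b) * ((a : X)⁻¹ * (c : X)⁻¹) * ((b : X)⁻¹ * (d : X)⁻¹) := by
          rw [ha, hb, mul_inv_rev, mul_inv_rev]
      _ = (a : X) * b * (a : X)⁻¹ * (b : X)⁻¹ := by
          have c1 : ∀ x ∈ L, Commute (c : X) x := fun x hx => (hc hcc x hx).symm
          have d1 : ∀ x ∈ L, Commute (d : X) x := fun x hx => (hc hdc x hx).symm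
          have e1 : (c : X) * a * ((d : X) * b) * ((a : X)⁻¹ * (c : X)⁻¹) =
              (d : X) * ((a : X) * b * (a : X)⁻¹) := by
            rw [show (c : X) * a * ((d : X) * b) = (c : X) * ((d : X) * (a * b)) by
                rw [mul_assoc, ← mul_assoc (a : X) (d : X), ← (d1 a a.2).eq, mul_assoc],
              show (c : X) * ((d : X) * (a * b)) * ((a : X)⁻¹ * (c : X)⁻¹) =
                (c : X) * ((d : X) * ((a : X) * b * (a : X)⁻¹)) * (c : X)⁻¹ by group,
              (c1 _ (mul_mem d.2 (mul_mem (mul_mem a.2 b.2) (inv_mem a.2)))).eq, mul_inv_cancel_right]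
          rw [e1, ← mul_assoc, (d1 _ (mul_mem (mul_mem a.2 b.2) (inv_mem a.2))).eq, mul_assoc _ (d : X),
            ((d1 (b : X)⁻¹ (inv_mem b.2))).eq, ← mul_assoc, mul_inv_cancel_right]
  refine mem_centralizer_iff.2 fun x hx => ?_
  have : (⟨x, hx⟩ : ↥L) ∈ K := hK (perfect_comp hL ▸ mem_top _)
  exact (mul_inv_eq_iff_eq_mul.1 this).symm

/-- An element outside a component normalising it acts on its simple quotient as an inner automorphism only if it
is a product with a centralising element. -/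
theorem sylow_split [L.Normal] (hL : Cfsg.IsComponent L) (hSE : ∃ H : Subgroup (↥L ⧸ center ↥L),
      Cfsg.IsStronglyEmbedded H) (S : Sylow 2 X)
    (hN : ∀ g ∈ normalizer ((((S : Subgroup X) ⊓ L : Subgroup X)) : Set X),
      ∃ c ∈ centralizer (L : Set X), c * g ∈ normalizer ((S : Subgroup X) : Set X)) :
    ∀ s ∈ (S : Subgroup X), ∃ l ∈ L, ∃ c ∈ centralizer (L : Set X), s = l * c := by
  haveI : Fact (Nat.Prime 2) := ⟨Nat.prime_two⟩
  set C := centralizer (L : Set X) with hC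
  haveI : C.Normal := Subgroup.normal_centralizer
  set π := QuotientGroup.mk' C with hπ
  have hπs : Function.Surjective π := QuotientGroup.mk'_surjective C
  have hker : ∀ {g : X}, π g = 1 ↔ g ∈ C := fun {g} => QuotientGroup.eq_one_iff g
  set E := L.map π with hE
  haveI hEn : E.Normal := Normal.map inferInstance π hπs
  set f : ↥L →* ↥E := π.subgroupMap L with hf
  have hfs : Function.Surjective f := π.subgroupMap_surjective L
  have hfk : f.ker = center ↥L := by
    ext x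
    rw [MonoidHom.mem_ker, Subtype.ext_iff, hf]
    show π x = 1 ↔ _
    rw [hker, mem_center_iff, hC, mem_centralizer_iff]
    exact ⟨fun h g => Subtype.ext (h g g.2), fun h g hg => congrArg Subtype.val (h ⟨g, hg⟩)⟩
  let e : ↥L ⧸ center ↥L ≃* ↥E :=
    (QuotientGroup.quotientMulEquivOfEq hfk.symm).trans (QuotientGroup.quotientKerEquivOfSurjective f hfs)
  haveI := quot_simple hL
  haveI : IsSimpleGroup ↥E := e.symm.isSimpleGroup_congr.2 inferInstance
  have hEnc : ¬ IsMulCommutative ↥E := fun hc => quot_noncomm hL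
    ⟨⟨fun a b => e.injective (by rw [map_mul, map_mul, hc.is_comm.comm])⟩⟩
  set Sb : Sylow 2 (X ⧸ C) := S.mapSurjective hπs with hSb
  have hidx : ¬ 2 ∣ ((Sb : Subgroup (X ⧸ C)).subgroupOf E).index :=
    PTerm.sylow_inf_subnormal Sb.not_dvd_index hEn.isSubnormal
  set T : Sylow 2 ↥E := (Sb.2.comap_of_injective E.subtype E.subtype_injective).toSylow hidx with hTdef
  have hT : (T : Subgroup ↥E) = (Sb : Subgroup (X ⧸ C)).subgroupOf E := IsPGroup.toSylow_coe _ _
  obtain ⟨P, hP⟩ := CyclicInter.exists_spread ↥E inferInstance hEnc (Or.inr (se_transport e hSE)) T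
  have hcE : centralizer (E : Set (X ⧸ C)) = ⊥ := by
    refine (Subgroup.eq_bot_iff_forall _).2 fun y hy => ?_
    obtain ⟨g, rfl⟩ := hπs y
    refine hker.2 (mem_centralizer_of_mod hL fun x hx => ?_)
    have h1 := mem_centralizer_iff.1 hy (π x) (mem_map_of_mem π hx)
    have h2 : g * x * g⁻¹ * x⁻¹ ∈ C := hker.1 (by
      rw [map_mul, map_mul, map_mul, map_inv, map_inv, ← h1]; group)
    have h3 : g * x * g⁻¹ * x⁻¹ ∈ L := mul_mem ((inferInstance : L.Normal).conj_mem x hx g) (inv_mem hx)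
    refine ⟨⟨_, h3⟩, mem_center_iff.2 fun w => Subtype.ext ?_, rfl⟩
    exact mem_centralizer_iff.1 h2 w w.2
  obtain ⟨T₀, hT₀⟩ := exists_syl hL S
  have hXP : (Sb : Subgroup (X ⧸ C)) ⊓ E = ((S : Subgroup X) ⊓ L).map π := by
    refine le_antisymm (fun y hy => ?_) ?_
    · have hle : ((T₀.mapSurjective hfs : Sylow 2 ↥E) : Subgroup ↥E) ≤ T := by
        rw [Sylow.coe_mapSurjective, hT, hT₀]
        rintro _ ⟨w, hw, rfl⟩
        rw [mem_subgroupOf, hSb, Sylow.coe_mapSurjective]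
        exact ⟨w, hw, rfl⟩
      have heq := Subgroup.ext_iff.1 ((T₀.mapSurjective hfs).is_maximal' T.2 hle) ⟨y, hy.2⟩
      have hyT : (⟨y, hy.2⟩ : ↥E) ∈ ((T₀.mapSurjective hfs : Sylow 2 ↥E) : Subgroup ↥E) := heq.1 (by
        rw [hT, mem_subgroupOf]; exact hy.1)
      rw [Sylow.coe_mapSurjective, hT₀] at hyT
      obtain ⟨w, hw, hwy⟩ := hyT
      exact ⟨w, ⟨hw, w.2⟩, congrArg Subtype.val hwy⟩
    · rintro _ ⟨w, hw, rfl⟩
      refine ⟨?_, mem_map_of_mem π hw.2⟩
      rw [hSb, Sylow.coe_mapSurjective]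
      exact mem_map_of_mem π hw.1
  have hCL : ∀ {w : X}, w ∈ L → w ∈ C → w ∈ (S : Subgroup X) → w ∈ (S : Subgroup X) ⊓ L := fun h _ hS => ⟨hS, h⟩
  have hN' : normalizer (((Sb : Subgroup (X ⧸ C)) ⊓ E : Subgroup (X ⧸ C)) : Set (X ⧸ C)) ≤
      normalizer ((Sb : Subgroup (X ⧸ C)) : Set (X ⧸ C)) := by
    intro y hy
    obtain ⟨g, rfl⟩ := hπs y
    rw [hXP] at hy
    have hgP : g ∈ normalizer ((((S : Subgroup X) ⊓ L : Subgroup X)) : Set X) := by
      refine SEBrick.mem_normalizer_of fun w hw => ?_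
      have h1 := (mem_normalizer_iff.1 hy _).1 (mem_map_of_mem π hw)
      obtain ⟨v, hv, hve⟩ := h1
      have h2 : v⁻¹ * (g * w * g⁻¹) ∈ C := hker.1 (by
        rw [map_mul, map_mul, map_mul, map_inv, map_inv, hve, inv_mul_cancel])
      have h3 : g * w * g⁻¹ ∈ L := (inferInstance : L.Normal).conj_mem w hw.2 g
      have h4 : (⟨v⁻¹ * (g * w * g⁻¹), mul_mem (inv_mem hv.2) h3⟩ : ↥L) ∈ center ↥L :=
        mem_center_iff.2 fun u => Subtype.ext (mem_centralizer_iff.1 h2 u u.2)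
      -- the centre lies in every Sylow subgroup of the component
      obtain ⟨k, hk⟩ : ∃ k, orderOf (⟨g * w * g⁻¹, h3⟩ : ↥L) = 2 ^ k := by
        obtain ⟨k, hk⟩ := IsPGroup.iff_orderOf.1 S.2 ⟨w, hw.1⟩
        exact ⟨k, by rw [← orderOf_coe, Invol.order_conj, ← hk, orderOf_mk]⟩
      have hmem : (⟨g * w * g⁻¹, h3⟩ : ↥L) ∈ (T₀ : Subgroup ↥L) := by
        refine CyclicInter.mem_of_two_normalizer (k := k) ?_ (hk ▸ pow_orderOf_eq_one _)
        rw [show (⟨g * w * g⁻¹, h3⟩ : ↥L) = ⟨v, hv.2⟩ * ⟨v⁻¹ * (g * w * g⁻¹), mul_mem (inv_mem hv.2) h3⟩ from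
          Subtype.ext (mul_inv_cancel_left v _).symm]
        refine mul_mem (le_normalizer ?_) (center_le_normalizer _ h4)
        rw [hT₀, mem_subgroupOf]; exact hv.1
      rw [hT₀, mem_subgroupOf] at hmem
      exact ⟨hmem, h3⟩
    obtain ⟨c, hc, hcg⟩ := hN g hgP
    have hmap : π g = π (c * g) := by rw [map_mul, hker.2 hc, one_mul]
    rw [hmap, hSb, Sylow.coe_mapSurjective]
    exact le_normalizer_map π ⟨c * g, hcg, rfl⟩
  intro s hs
  have hsE : π s ∈ E := CyclicInter.sylow_le_of E hcE Sb T hT hN' hP (by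
    rw [hSb, Sylow.coe_mapSurjective]; exact mem_map_of_mem π hs)
  obtain ⟨l, hl, hls⟩ := hsE
  exact ⟨l, hl, l⁻¹ * s, hker.1 (by rw [map_mul, map_inv, hls, inv_mul_cancel]), (mul_inv_cancel_left l s).symm⟩

/-- The traces on `L` determine the Sylow subgroups. -/
def Det (L : Subgroup X) : Prop :=
  ∀ S T : Sylow 2 X, (S : Subgroup X) ⊓ L = (T : Subgroup X) ⊓ L → S = T

namespace Det

variable (hD : Det L)
include hD

theorem normalizer_le {g : X} (hgL : ∀ x, x ∈ L ↔ g⁻¹ * x * g ∈ L) (S : Sylow 2 X)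
    (hg : g ∈ normalizer ((((S : Subgroup X) ⊓ L : Subgroup X)) : Set X)) :
    g ∈ normalizer ((S : Subgroup X) : Set X) := by
  refine Sylow.smul_eq_iff_mem_normalizer.1 (hD _ _ (Subgroup.ext fun x => ?_))
  rw [mem_inf, mem_inf, CentralInter.mem_smul_sylow]
  constructor
  · rintro ⟨hx, hxL⟩
    exact (mem_normalizer_iff''.1 hg x).2 ⟨hx, (hgL x).1 hxL⟩
  · intro hx
    exact ⟨((mem_normalizer_iff''.1 hg x).1 hx).1, hx.2⟩

theorem centralizer_le (S : Sylow 2 X) : centralizer (L : Set X) ≤ normalizer ((S : Subgroup X) : Set X) := by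
  intro c hc
  have hfix : ∀ x ∈ L, c⁻¹ * x * c = x := fun x hx => by
    rw [mul_assoc, mem_centralizer_iff.1 hc x hx, inv_mul_cancel_left]
  refine Sylow.smul_eq_iff_mem_normalizer.1 (hD _ _ (Subgroup.ext fun x => ?_))
  rw [mem_inf, mem_inf, CentralInter.mem_smul_sylow]
  constructor
  · rintro ⟨hx, hxL⟩; exact ⟨hfix x hxL ▸ hx, hxL⟩
  · rintro ⟨hx, hxL⟩; exact ⟨(hfix x hxL).symm ▸ hx, hxL⟩

theorem unique (hL : Cfsg.IsComponent L) {M : Subgroup X} (hM : Cfsg.IsComponent M) : M = L := by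
  haveI : Fact (Nat.Prime 2) := ⟨Nat.prime_two⟩
  by_contra hne
  have hMC : M ≤ centralizer (L : Set X) :=
    commutator_eq_bot_iff_le_centralizer.1 (Components.components_commute hM hL hne)
  obtain ⟨S⟩ : Nonempty (Sylow 2 X) := inferInstance
  obtain ⟨T, hT⟩ := exists_syl hM S
  haveI : (T : Subgroup ↥M).Normal := by
    rw [hT]
    exact ⟨fun x hx g => (mem_normalizer_iff.1 (hD.centralizer_le S (hMC g.2)) x).1 hx⟩
  refine Components.quasisimple_not_solvable hM.2 ?_
  haveI : Group.IsSolvable (T : Subgroup ↥M) := MinNonCA.solvable_of_twoGroup T.2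
  haveI : Group.IsSolvable (↥M ⧸ (T : Subgroup ↥M)) := MinNonCA.solvable_of_odd
    (Nat.odd_iff.2 (Nat.two_dvd_ne_zero.1 T.not_dvd_index))
  exact Group.isSolvable_of_ker_le_range (T : Subgroup ↥M).subtype (QuotientGroup.mk' (T : Subgroup ↥M))
    (by rw [QuotientGroup.ker_mk', range_subtype])

theorem normal (hL : Cfsg.IsComponent L) : L.Normal := ⟨fun x hx g => by
  have he := hD.unique hL (Components.component_conj hL g)
  exact he.le ⟨x, hx, rfl⟩⟩

theorem inf_centralizer_le_R (hO : Cfsg.oddCore X = ⊥) (hL : Cfsg.IsComponent L) (S : Sylow 2 X) :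
    (S : Subgroup X) ⊓ centralizer (L : Set X) ≤ Cfsg.pCore 2 X := by
  haveI := hD.normal hL
  haveI hCn : (centralizer (L : Set X)).Normal := Subgroup.normal_centralizer
  refine subnormal_le_R hO (Subgroup.IsSubnormal.step _ _ inf_le_right hCn.isSubnormal ?_) (S.2.to_le inf_le_left)
  exact (normal_subgroupOf_iff_le_normalizer inf_le_right).2
    ((_root_.le_inf (hD.centralizer_le S) le_normalizer).trans inf_normalizer_le_normalizer_inf)

/-- A Sylow subgroup is the product of its trace and the 2-core. -/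
theorem split (hO : Cfsg.oddCore X = ⊥) (hL : Cfsg.IsComponent L) (hSE : ∃ H : Subgroup (↥L ⧸ center ↥L),
      Cfsg.IsStronglyEmbedded H) (S : Sylow 2 X) {s : X} (hs : s ∈ (S : Subgroup X)) :
    ∃ l, l ∈ (S : Subgroup X) ∧ l ∈ L ∧ ∃ r ∈ Cfsg.pCore 2 X, s = l * r := by
  haveI : Fact (Nat.Prime 2) := ⟨Nat.prime_two⟩
  haveI hLn := hD.normal hL
  obtain ⟨l, hl, c, hc, rfl⟩ := sylow_split hL hSE S (fun g hg => ⟨1, one_mem _, by
    rw [one_mul]
    exact hD.normalizer_le (fun x => ⟨fun hx => by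
      have := hLn.conj_mem x hx g⁻¹; rwa [inv_inv] at this, fun hx => by
      have := hLn.conj_mem _ hx g; rwa [show g * (g⁻¹ * x * g) * g⁻¹ = x by group] at this⟩) S hg⟩) s hs
  obtain ⟨T, hT⟩ := exists_syl hL S
  have hcl : Commute l c := (mem_centralizer_iff.1 hc l hl)
  have hlT : (⟨l, hl⟩ : ↥L) ∈ (T : Subgroup ↥L) := by
    obtain ⟨k, hk⟩ := S.2 ⟨l * c, hs⟩
    have hk' : l ^ 2 ^ k * c ^ 2 ^ k = 1 := by rw [← hcl.mul_pow]; exact congrArg Subtype.val hk
    have hpow : (⟨l, hl⟩ : ↥L) ^ 2 ^ k ∈ center ↥L := mem_center_iff.2 fun w => Subtype.ext (by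
      show (w : X) * l ^ 2 ^ k = l ^ 2 ^ k * w
      rw [eq_inv_of_mul_eq_one_left hk']
      exact mem_centralizer_iff.1 (inv_mem (pow_mem hc _)) w w.2)
    obtain ⟨j, hj⟩ := center_two hO hL ⟨_, hpow⟩
    refine CyclicInter.mem_of_two_normalizer (k := k + j) (SEBrick.mem_normalizer_of fun w hw => ?_) (by
      rw [pow_add, pow_mul]; exact congrArg Subtype.val hj)
    rw [hT, mem_subgroupOf] at hw ⊢
    show l * (w : X) * l⁻¹ ∈ (S : Subgroup X)
    have h1 := mul_mem (mul_mem hs hw) (inv_mem hs)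
    have hcw : Commute c (w : X) := (mem_centralizer_iff.1 hc w w.2).symm
    rwa [show l * c * (w : X) * (l * c)⁻¹ = l * (c * w * c⁻¹) * l⁻¹ by group, hcw.eq, mul_inv_cancel_right] at h1
  rw [hT, mem_subgroupOf] at hlT
  refine ⟨l, hlT, hl, c, hD.inf_centralizer_le_R hO hL S ⟨?_, hc⟩, rfl⟩
  have := mul_mem (inv_mem hlT) hs
  rwa [inv_mul_cancel_left] at this

end Det

end Cfsg.Agent.GoldCons.RankOneInter
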