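import Cfsg.Agent.Lib.GoldCons.RankOneInter.TI
import Cfsg.Agent.Lib.GoldCons.Basic
import Cfsg.Agent.Lib.Walter4.KindProof
import Cfsg.Agent.Lib.Solvable.Structure
import Cfsg.Agent.Lib.ZCGroup.TwoGroup
import Cfsg.Agent.Lib.BrauerSuzuki.Basic

/-!
A perfect group with a central involution and 2-rank at least two, in which every other involution lies in one
Sylow 2-subgroup only: the simple quotient has a strongly embedded subgroup.
-/

set_option autoImplicit false
set_option linter.style.haveILetI false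
set_option linter.unusedSectionVars false

namespace Cfsg.Agent.GoldCons.RankOneInter

open Subgroup
open scoped Pointwise

universe u

variable {L : Type u} [Group L] [Finite L]

/-- An involution central modulo the centre. -/
theorem exists_central_mod (hperf : commutator L = ⊤) {z : L} (hz : z ∈ center L) (hzz : z * z = 1)
    (hz1 : z ≠ 1) (P : Sylow 2 L) (hzP : z ∈ (P : Subgroup L)) {b : L} (hbP : b ∈ (P : Subgroup L))
    (hbb : b * b = 1) (hb1 : b ≠ 1) (hbz : b ≠ z)
    (huni : ∀ c ∈ center L, c * c = 1 → c ≠ 1 → c = z) :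
    ∃ v ∈ (P : Subgroup L), v * v = 1 ∧ v ≠ 1 ∧ v ∉ center L ∧
      ∀ p ∈ (P : Subgroup L), p * v * p⁻¹ * v⁻¹ ∈ center L := by
  classical
  haveI : Fact (Nat.Prime 2) := ⟨Nat.prime_two⟩
  have hnZ : ∀ {v : L}, v * v = 1 → v ≠ 1 → v ≠ z → v ∉ center L := fun hvv hv1 hvz hc =>
    hvz (huni _ hc hvv hv1)
  by_cases hw : ∃ w ∈ (P : Subgroup L), w * w = 1 ∧ w ≠ 1 ∧ w ≠ z ∧ ∀ p ∈ (P : Subgroup L), p * w = w * p
  · obtain ⟨w, hwP, hww, hw1, hwz, hwc⟩ := hw
    exact ⟨w, hwP, hww, hw1, hnZ hww hw1 hwz, fun p hp => by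
      rw [hwc p hp, mul_inv_cancel_right, mul_inv_cancel]; exact one_mem _⟩
  push Not at hw
  have hcz : ∀ w : (P : Subgroup L), w * w = 1 → w ≠ 1 → w ∈ center ↥(P : Subgroup L) → (w : L) = z := by
    intro w hww hw1 hwc
    by_contra hne
    obtain ⟨p, hp, hpw⟩ := hw w w.2 (congrArg Subtype.val hww) (fun e => hw1 (Subtype.ext e)) hne
    exact hpw (congrArg Subtype.val (mem_center_iff.1 hwc ⟨p, hp⟩))
  haveI : (⊤ : Subgroup (P : Subgroup L)).Normal := inferInstance
  rcases ZCGroup.four_or_index_two P.2 (⊤ : Subgroup (P : Subgroup L)) with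
    ⟨V, hVn, -, hV4, hVe⟩ | ⟨T, -, hT2, hTc⟩
  · -- a normal four-group
    have hne : V ≠ ⊥ := fun e => by rw [e, card_bot] at hV4; omega
    haveI := P.isPGroup'.isNilpotent
    haveI := hVn
    obtain ⟨c, hc, hc1⟩ := (V ⊓ center _).bot_or_exists_ne_one.resolve_left (SolvStruct.inf_center_ne_bot hne)
    have hcv : (c : L) = z := hcz c (hVe c hc.1) hc1 hc.2
    obtain ⟨v, hv, hv1, hvc⟩ : ∃ v ∈ V, v ≠ 1 ∧ v ≠ c := by
      by_contra hno
      push Not at hno
      have hs : (V : Set (P : Subgroup L)) ⊆ {1, c} := fun x hx => by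
        by_cases h1 : x = 1
        · exact Or.inl h1
        · exact Or.inr (hno x hx h1)
      have := Set.ncard_le_ncard hs
      rw [Set.ncard_pair (Ne.symm hc1), ← Nat.card_coe_set_eq] at this
      change Nat.card V ≤ 2 at this
      omega
    have hvz : (v : L) ≠ z := fun e => hvc (Subtype.ext (e.trans hcv.symm))
    have hv1' : (v : L) ≠ 1 := fun e => hv1 (Subtype.ext e)
    have hvv : (v : L) * v = 1 := congrArg Subtype.val (hVe v hv)
    refine ⟨v, v.2, hvv, hv1', hnZ hvv hv1' hvz, fun p hp => ?_⟩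
    set q : (P : Subgroup L) := ⟨p, hp⟩
    have hm : q * v * q⁻¹ ∈ V := hVn.conj_mem v hv q
    have hdiff : q * v * q⁻¹ * v⁻¹ ∈ V := mul_mem hm (inv_mem hv)
    by_cases h1 : q * v * q⁻¹ * v⁻¹ = 1
    · have := congrArg Subtype.val h1
      push_cast at this
      rw [show p * (v : L) * p⁻¹ * (v : L)⁻¹ = 1 from this]
      exact one_mem _
    · -- the four elements of `V` are `1`, `c`, `v`, `c * v`
      have hcard : ∀ x ∈ V, x = 1 ∨ x = c ∨ x = v ∨ x = c * v := by
        intro x hx
        by_contra hno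
        push Not at hno
        obtain ⟨h1x, hcx, hvx, hcvx⟩ := hno
        have hcv1 : c * v ≠ 1 := fun e => hvc ((inv_eq_of_mul_eq_one_right e).symm.trans
          (inv_eq_of_mul_eq_one_right (hVe c hc.1)))
        have hs : ({1, c, v, c * v, x} : Finset (P : Subgroup L)) ⊆ (V : Set (P : Subgroup L)).toFinite.toFinset := by
          intro w hw
          simp only [Finset.mem_insert, Finset.mem_singleton] at hw
          rw [Set.Finite.mem_toFinset]
          rcases hw with rfl | rfl | rfl | rfl | rfl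
          exacts [one_mem _, hc.1, hv, mul_mem hc.1 hv, hx]
        have h2 := Finset.card_le_card hs
        rw [← Set.ncard_eq_toFinset_card, ← Nat.card_coe_set_eq] at h2
        change _ ≤ Nat.card V at h2
        rw [hV4, Finset.card_insert_of_notMem (by simp [Ne.symm hc1, hv1.symm, hcv1.symm, h1x.symm]),
          Finset.card_insert_of_notMem (by simp [hvc.symm, hv1, hcx.symm]),
          Finset.card_insert_of_notMem (by simp [hvx.symm, hc1]),
          Finset.card_insert_of_notMem (by simp [hcvx.symm]), Finset.card_singleton] at h2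
        omega
      have hcc : (c : L) ∈ center L := hcv ▸ hz
      rcases hcard _ hdiff with e | e | e | e
      · exact absurd e h1
      · have := congrArg Subtype.val e
        push_cast at this
        rw [show p * (v : L) * p⁻¹ * (v : L)⁻¹ = c from this]
        exact hcc
      · -- the conjugate of `v` would be trivial
        exfalso
        have h3 : q * v * q⁻¹ = v * v := mul_inv_eq_iff_eq_mul.1 e
        rw [hVe v hv] at h3
        exact hv1 (conj_eq_one_iff.1 h3)
      · exfalso
        have h3 : q * v * q⁻¹ = c := by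
          rw [mul_inv_eq_iff_eq_mul, mul_assoc c v v, hVe v hv, mul_one] at e
          exact e
        refine hvc ?_
        have h4 : v = q⁻¹ * c * q := by rw [← h3]; group
        rw [h4, mul_assoc, ← mem_center_iff.1 hc.2 q, inv_mul_cancel_left]
  · -- a subgroup of index two with central involutions only
    exfalso
    set bb : (P : Subgroup L) := ⟨b, hbP⟩
    have hbT : bb ∉ T := fun hb => hbz (hcz bb (Subtype.ext hbb) (fun e => hb1 (congrArg Subtype.val e))
      (hTc bb hb (Subtype.ext hbb)))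
    have hidx : T.index = 2 := by
      refine index_eq_two_iff.2 ⟨bb, fun c => ?_⟩
      by_cases hc : c ∈ T
      · refine Or.inr ⟨hc, fun h => hbT ?_⟩
        have := mul_mem (inv_mem hc) h
        rwa [inv_mul_cancel_left] at this
      · refine Or.inl ⟨?_, hc⟩
        have hc' : c⁻¹ ∉ T := fun h => hc (inv_inv c ▸ inv_mem h)
        have := hT2 c⁻¹ (mem_top _) bb (mem_top _) hc' hbT
        rwa [inv_inv] at this
    set Q := T.map (P : Subgroup L).subtype with hQ
    have hrel : Q.relIndex (P : Subgroup L) = 2 := by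
      rw [relIndex, hQ, subgroupOf, comap_map_eq_self_of_injective (P : Subgroup L).subtype_injective, hidx]
    have hzT : (⟨z, hzP⟩ : (P : Subgroup L)) ∈ T := by
      by_contra hzT
      have h1 := hT2 ⟨z, hzP⟩ (mem_top _) bb (mem_top _) hzT hbT
      have h2 : z⁻¹ * b ≠ 1 := fun e => hbz (inv_mul_eq_one.1 e).symm
      have hzb : z⁻¹ * b * (z⁻¹ * b) = 1 := by
        rw [inv_eq_of_mul_eq_one_right hzz]
        calc z * b * (z * b) = z * z * (b * b) :=
              (show Commute b z from mem_center_iff.1 hz b).mul_mul_mul_comm z b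
          _ = 1 := by rw [hzz, hbb, mul_one]
      have h3 : z⁻¹ * b = z := hcz _ (Subtype.ext hzb) (fun e => h2 (congrArg Subtype.val e))
        (hTc _ h1 (Subtype.ext hzb))
      exact hb1 (by rw [inv_mul_eq_iff_eq_mul.1 h3, hzz])
    obtain ⟨M, hMn, hMi, -⟩ := BrauerSuzuki.exists_index_two (S := P) Q (map_subtype_le T) hrel hbP
      (fun ⟨c, hc, hcb⟩ => hbT (by rwa [← show c = bb from Subtype.ext hcb]))
      (by rw [show (4 : ℕ) = 2 * 2 from rfl, pow_mul, pow_two b, hbb, one_pow])
      (fun g _ => by rw [pow_two, hbb, mul_one, mul_inv_cancel]; exact one_mem _)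
      (fun g hg => by
        obtain ⟨c, hc, hcb⟩ := hg
        have hcc : c * c = 1 := Subtype.ext (by
          show (c : L) * c = 1
          rw [show (c : L) = g * b * g⁻¹ from hcb,
            show g * b * g⁻¹ * (g * b * g⁻¹) = g * (b * b) * g⁻¹ by group, hbb, mul_one, mul_inv_cancel])
        by_cases hc1 : c = 1
        · exact hb1 (conj_eq_one_iff.1 (hcb.symm.trans (congrArg Subtype.val hc1)))
        have h4 : g * b * g⁻¹ = z := hcb.symm.trans (hcz c hcc hc1 (hTc c hc hcc))
        refine hbz ?_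
        calc b = g⁻¹ * (g * b * g⁻¹) * g := by group
          _ = z := by rw [h4, mul_assoc, ← mem_center_iff.1 hz g, inv_mul_cancel_left])
    haveI := hMn
    have hle : commutator L ≤ M := by
      haveI : IsCyclic (L ⧸ M) := isCyclic_of_prime_card (p := 2) hMi
      haveI : IsMulCommutative (L ⧸ M) := IsCyclic.isMulCommutative
      rw [_root_.commutator_def, commutator_le]
      intro x _ y _
      rw [← QuotientGroup.eq_one_iff]
      simp only [commutatorElement_def, QuotientGroup.mk_mul, QuotientGroup.mk_inv]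
      rw [mul_comm' (x : L ⧸ M) (y : L ⧸ M)]
      group
    rw [hperf, top_le_iff] at hle
    rw [hle, index_top] at hMi
    omega

/-- The simple quotient has a strongly embedded subgroup. -/
theorem cover_se (hA : ClosedStmt.{u}) (hperf : commutator L = ⊤) (hs : IsSimpleGroup (L ⧸ center L))
    (hnc : ¬ IsMulCommutative (L ⧸ center L)) (hZ : IsPGroup 2 ↥(center L)) {z : L} (hz : z ∈ center L)
    (hzz : z * z = 1) (hz1 : z ≠ 1) (huni : ∀ c ∈ center L, c * c = 1 → c ≠ 1 → c = z)
    (huniq : ∀ S T : Sylow 2 L, ∀ v ∈ (S : Subgroup L) ⊓ (T : Subgroup L), v * v = 1 → v ∉ center L → S = T)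
    (P : Sylow 2 L) {b : L} (hbP : b ∈ (P : Subgroup L)) (hbb : b * b = 1) (hb1 : b ≠ 1) (hbz : b ≠ z) :
    ∃ H : Subgroup (L ⧸ center L), Cfsg.IsStronglyEmbedded H := by
  classical
  haveI : Fact (Nat.Prime 2) := ⟨Nat.prime_two⟩
  have hZle : ∀ T : Sylow 2 L, center L ≤ (T : Subgroup L) := fun T => IsPGroup.le_sylow_of_normal hZ T
  set π := QuotientGroup.mk' (center L) with hπ
  have hπs : Function.Surjective π := QuotientGroup.mk'_surjective _
  have hker : ∀ {x : L}, π x = 1 ↔ x ∈ center L := fun {x} => QuotientGroup.eq_one_iff x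
  set Pb : Sylow 2 (L ⧸ center L) := P.mapSurjective hπs with hPb
  have hPbmem : ∀ {x : L}, π x ∈ (Pb : Subgroup (L ⧸ center L)) ↔ x ∈ (P : Subgroup L) := fun {x} => by
    rw [hPb, Sylow.coe_mapSurjective, ← mem_comap, comap_map_eq_self]
    rw [QuotientGroup.ker_mk']; exact hZle P
  obtain ⟨v, hvP, hvv, hv1, hvZ, hvc⟩ := exists_central_mod hperf hz hzz hz1 P (hZle P hz) hbP hbb hb1 hbz huni
  have hcen : ∀ p ∈ (Pb : Subgroup (L ⧸ center L)), p * π v = π v * p := by
    intro p hp
    obtain ⟨q, rfl⟩ := hπs p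
    have h1 := hker.2 (hvc q (hPbmem.1 hp))
    rw [map_mul, map_mul, map_inv, map_inv, mul_inv_eq_one, mul_inv_eq_iff_eq_mul] at h1
    exact h1
  set NP := normalizer ((Pb : Subgroup (L ⧸ center L)) : Set (L ⧸ center L)) with hNP
  set A := closure {y | ∃ n ∈ NP, y = n * π v * n⁻¹} with hA'
  have hvA : π v ∈ A := subset_closure ⟨1, one_mem _, by group⟩
  have hAP : A ≤ (Pb : Subgroup (L ⧸ center L)) := by
    rw [hA', closure_le]
    rintro y ⟨n, hn, rfl⟩
    exact (mem_normalizer_iff.1 hn _).1 (hPbmem.2 hvP)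
  have hAC : A ≤ centralizer ((Pb : Subgroup (L ⧸ center L)) : Set (L ⧸ center L)) := by
    rw [hA', closure_le]
    rintro y ⟨n, hn, rfl⟩
    refine mem_centralizer_iff.2 fun p hp => ?_
    have h1 := hcen _ ((mem_normalizer_iff''.1 hn p).1 hp)
    calc p * (n * π v * n⁻¹) = n * (n⁻¹ * p * n * π v) * n⁻¹ := by group
      _ = n * π v * n⁻¹ * p := by rw [h1]; group
  have hAconj : ∀ n ∈ NP, ∀ y ∈ A, n * y * n⁻¹ ∈ A := by
    intro n hn y hy
    have hle : A ≤ A.comap (MulAut.conj n).toMonoidHom := by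
      conv_lhs => rw [hA']
      rw [closure_le]
      rintro y ⟨m, hm, rfl⟩
      exact subset_closure ⟨n * m, mul_mem hn hm, by simp [mul_assoc]⟩
    exact hle hy
  have hcl : Cfsg.IsStronglyClosed A (Pb : Subgroup (L ⧸ center L)) := by
    refine ⟨hAP, fun x hx g hxg => ?_⟩
    set w := g * x * g⁻¹ with hw
    set U : Sylow 2 (L ⧸ center L) := g • Pb with hU
    have hUC : (U : Subgroup (L ⧸ center L)) ≤ centralizer ({w} : Set (L ⧸ center L)) := by
      intro u hu
      rw [hU, CentralInter.mem_smul_sylow] at hu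
      refine mem_centralizer_singleton_iff.2 ?_
      have h1 := mem_centralizer_iff.1 (hAC hx) _ hu
      calc u * w = g * (g⁻¹ * u * g * x) * g⁻¹ := by rw [hw]; group
        _ = g * (x * (g⁻¹ * u * g)) * g⁻¹ := by rw [h1]
        _ = w * u := by rw [hw]; group
    have hvC : π v ∈ centralizer ({w} : Set (L ⧸ center L)) := mem_centralizer_singleton_iff.2 (hcen w hxg).symm
    obtain ⟨R, hR⟩ := (IsPGroup.of_card (p := 2) (n := 1)
        (G := zpowers (⟨π v, hvC⟩ : centralizer ({w} : Set (L ⧸ center L)))) (by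
      rw [Nat.card_zpowers, Subgroup.orderOf_mk, Invol.order_two_of_sq (by rw [← map_mul, hvv, map_one])
        (fun e => hvZ (hker.1 e)), pow_one])).exists_le_sylow
    obtain ⟨c, hc⟩ := MulAction.exists_smul_eq (centralizer ({w} : Set (L ⧸ center L))) (U.subtype hUC) R
    have hvW : π v ∈ ((((c : L ⧸ center L) * g) • Pb : Sylow 2 (L ⧸ center L)) : Subgroup (L ⧸ center L)) := by
      have hm := hR (mem_zpowers _)
      rw [← hc, CentralInter.mem_smul_sylow, Sylow.coe_subtype, mem_subgroupOf] at hm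
      rw [CentralInter.mem_smul_sylow, mul_inv_rev]
      push_cast at hm
      rw [hU, CentralInter.mem_smul_sylow] at hm
      simpa [mul_assoc] using hm
    obtain ⟨k, hk⟩ := hπs ((c : L ⧸ center L) * g)
    -- the preimage of that Sylow subgroup contains `v`
    rw [CentralInter.mem_smul_sylow, ← hk, ← map_inv, ← map_mul, ← map_mul] at hvW
    have hvk : v ∈ ((k • P : Sylow 2 L) : Subgroup L) := by
      rw [CentralInter.mem_smul_sylow]
      exact hPbmem.1 hvW
    have hPk : k • P = P := huniq _ _ v ⟨hvk, hvP⟩ hvv hvZ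
    have hcg : (c : L ⧸ center L) * g ∈ NP := by
      have h1 := Sylow.smul_eq_iff_mem_normalizer.1 hPk
      rw [hNP, mem_normalizer_iff]
      intro y
      obtain ⟨y, rfl⟩ := hπs y
      rw [← hk, ← map_inv, ← map_mul, ← map_mul, hPbmem, hPbmem]
      exact mem_normalizer_iff.1 h1 y
    have hcw : (c : L ⧸ center L) * w * (c : L ⧸ center L)⁻¹ = w := by
      rw [mem_centralizer_singleton_iff.1 c.2, mul_inv_cancel_right]
    refine (show w = (c : L ⧸ center L) * g * x * ((c : L ⧸ center L) * g)⁻¹ from ?_).symm ▸ hAconj _ hcg x hx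
    refine hcw.symm.trans ?_
    show (c : L ⧸ center L) * (g * x * g⁻¹) * (c : L ⧸ center L)⁻¹ = _
    group
  have hA1 : A ≠ ⊥ := fun e => hvZ (hker.1 (mem_bot.1 (e ▸ hvA)))
  have hAc : IsMulCommutative A := ⟨⟨fun a b => Subtype.ext (mem_centralizer_iff.1 (hAC b.2) a (hAP a.2))⟩⟩
  rcases hA (L ⧸ center L) hs Pb A hA1 hAc hcl with hab | hse
  swap
  · exact hse
  -- abelian Sylow subgroups are impossible
  exfalso
  have hall : ∀ T : Sylow 2 (L ⧸ center L), IsMulCommutative (T : Subgroup (L ⧸ center L)) := fun T =>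
    ⟨⟨fun x y => (Sylow.equiv T Pb).injective (by rw [map_mul, map_mul, hab.is_comm.comm])⟩⟩
  have hG := Walter4.good (L ⧸ center L) hs hnc hall
  obtain ⟨Q, hQ⟩ := CyclicInter.spread_good (L ⧸ center L) hs hnc hG Pb
  obtain ⟨hsq, -⟩ := Walter4.kindStmt (L ⧸ center L) hs hG Pb
  obtain ⟨h₀, hh₀, -, htr, -, -⟩ := hQ.facts.reg
  -- every element of `P` is an involution times a central element
  have hsplit : ∀ x ∈ (P : Subgroup L), ∃ i : L, ∃ c ∈ center L, x = i * c ∧ i * i = 1 := by
    intro x hx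
    by_cases hxZ : x ∈ center L
    · exact ⟨1, x, hxZ, (one_mul x).symm, one_mul 1⟩
    have hQx : π x ∈ Q := (hQ.facts.mem_iff _ (hPbmem.2 hx)).1 (hsq _ (hPbmem.2 hx))
    have hQv : π v ∈ Q := (hQ.facts.mem_iff _ (hPbmem.2 hvP)).1 (hsq _ (hPbmem.2 hvP))
    obtain ⟨i, hi⟩ := htr _ hQv (fun e => hvZ (hker.1 e)) _ hQx fun e => hxZ (hker.1 e)
    obtain ⟨k, hk⟩ := hπs (h₀ ^ i)
    rw [← hk, ← map_inv, ← map_mul, ← map_mul] at hi
    refine ⟨k * v * k⁻¹, (k * v * k⁻¹)⁻¹ * x, hker.1 (by rw [map_mul, map_inv, hi, inv_mul_cancel]),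
      (mul_inv_cancel_left _ _).symm, ?_⟩
    rw [show k * v * k⁻¹ * (k * v * k⁻¹) = k * (v * v) * k⁻¹ by group, hvv, mul_one, mul_inv_cancel]
  -- transfer to the quotient of `P` by the squares of the centre
  haveI hfin : Fintype (center L) := Fintype.ofFinite _
  letI : CommGroup ↥(center L) := { (inferInstance : Group ↥(center L)) with
    mul_comm := fun a b => Subtype.ext (mem_center_iff.1 b.2 a) }
  set sq : ↥(center L) →* ↥(center L) := powMonoidHom 2 with hsqdef
  obtain ⟨w, hw⟩ : ∃ w : ↥(center L), w ∉ sq.range := by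
    by_contra hno
    push Not at hno
    have hsur : Function.Surjective sq := fun y => hno y
    have := Finite.injective_iff_surjective.2 hsur (a₁ := ⟨z, hz⟩) (a₂ := 1) (Subtype.ext (by
      simp [hsqdef, powMonoidHom_apply, pow_two, hzz]))
    exact hz1 (congrArg Subtype.val this)
  set M : Subgroup ↥(P : Subgroup L) := ((sq.range).map (center L).subtype).subgroupOf (P : Subgroup L) with hM
  haveI hMn : M.Normal := ⟨fun m hm g => by
    rw [hM, mem_subgroupOf] at hm ⊢
    obtain ⟨c, hc, hcm⟩ := hm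
    refine ⟨c, hc, hcm.trans ?_⟩
    push_cast
    rw [mem_center_iff.1 (show (m : L) ∈ center L from hcm ▸ c.2) g, mul_inv_cancel_right]⟩
  have hsqM : ∀ q : ↥(P : Subgroup L) ⧸ M, q * q = 1 := by
    intro q
    obtain ⟨x, rfl⟩ := QuotientGroup.mk'_surjective M q
    rw [← map_mul, QuotientGroup.mk'_apply, QuotientGroup.eq_one_iff, hM, mem_subgroupOf]
    obtain ⟨i, c, hc, hxe, hii⟩ := hsplit x x.2
    refine ⟨sq ⟨c, hc⟩, ⟨_, rfl⟩, ?_⟩
    show c ^ 2 = (x : L) * x
    rw [hxe, pow_two, show i * c * (i * c) = i * (c * i) * c by group, ← mem_center_iff.1 hc i,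
      show i * (i * c) * c = i * i * (c * c) by group, hii, one_mul]
  letI : CommGroup (↥(P : Subgroup L) ⧸ M) := { (inferInstance : Group (↥(P : Subgroup L) ⧸ M)) with
    mul_comm := fun a b => by
      calc a * b = a * b * ((b * a) * (b * a)) := by rw [hsqM, mul_one]
        _ = a * (b * b) * a * (b * a) := by group
        _ = b * a := by rw [hsqM, mul_one, hsqM, one_mul] }
  set φ := QuotientGroup.mk' M
  have h1 := MonoidHom.transfer_eq_pow φ (w : L) fun k g₀ _ => by
    rw [mul_assoc, ← mem_center_iff.1 (pow_mem w.2 k) g₀, inv_mul_cancel_left]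
  have h0 : MonoidHom.transfer φ (w : L) = 1 :=
    Abelianization.commutator_subset_ker _ (hperf ▸ mem_top _)
  rw [h0] at h1
  have hwP : (w : L) ∈ (P : Subgroup L) := hZle P w.2
  have hpow : ∀ m : ℕ, φ ⟨(w : L) ^ m, pow_mem hwP m⟩ = φ ⟨w, hwP⟩ ^ m := fun m => by
    rw [← map_pow]; rfl
  have h2 : φ ⟨w, hwP⟩ ^ (P : Subgroup L).index = 1 := by
    rw [← hpow]; exact h1.symm
  obtain ⟨j, hj⟩ := Nat.odd_iff.2 (Nat.two_dvd_ne_zero.1 P.not_dvd_index)
  rw [hj, pow_succ, pow_mul, pow_two, hsqM, one_pow, one_mul, QuotientGroup.mk'_apply,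
    QuotientGroup.eq_one_iff, hM, mem_subgroupOf] at h2
  obtain ⟨c, hc, hcw⟩ := h2
  exact hw (Subtype.ext hcw ▸ hc)

end Cfsg.Agent.GoldCons.RankOneInter
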