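import Cfsg.Agent.Lib.GoldCons.RankOneInter.Cases
import Cfsg.Agent.Lib.DoubleCoverDeg.FourBound

/-!
Passage from a group to its quotient by the odd core and back.
-/

set_option autoImplicit false
set_option linter.style.haveILetI false
set_option linter.unusedSectionVars false

namespace Cfsg.Agent.GoldCons.RankOneInter

open Subgroup
open scoped Pointwise

universe u

variable {G : Type u} [Group G] [Finite G]

theorem lift_sylow {H : Type u} [Group H] [Finite H] (π : G →* H) (hπ : Function.Surjective π) (S : Sylow 2 H) :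
    ∃ S₁ : Sylow 2 G, (S₁ : Subgroup G).map π = S := by
  obtain ⟨S₁, -, he⟩ := CyclicInter.exists_lift π hπ S (IsPGroup.of_bot (G := G) (p := 2)) bot_le
  exact ⟨S₁, he⟩

/-- The hypotheses pass to the quotient by the odd core. -/
theorem hyp_quotient (hns : ¬ Group.IsSolvable G) (hri : RI G)
    (hnC : ∃ S T : Sylow 2 (G ⧸ Cfsg.oddCore G), S ≠ T ∧
      ¬ IsCyclic ↥((S : Subgroup (G ⧸ Cfsg.oddCore G)) ⊓ (T : Subgroup (G ⧸ Cfsg.oddCore G))))
    (hnQ : ∀ S : Sylow 2 G, ∀ n : ℕ, IsEmpty (↥(S : Subgroup G) ≃* QuaternionGroup (2 ^ (n + 1)))) :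
    Hyp (G ⧸ Cfsg.oddCore G) := by
  classical
  haveI : Fact (Nat.Prime 2) := ⟨Nat.prime_two⟩
  haveI : (Cfsg.oddCore G).Normal := GW.oddCore_normal
  set π := QuotientGroup.mk' (Cfsg.oddCore G) with hπdef
  have hπ : Function.Surjective π := QuotientGroup.mk'_surjective _
  have hker : π.ker = Cfsg.oddCore G := QuotientGroup.ker_mk' _
  have hodd : Odd (Nat.card π.ker) := by rw [hker]; exact GW.oddCore_odd
  have htwo : ∀ S : Sylow 2 G, HasTwo (S : Subgroup G) := by
    intro S
    by_contra h1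
    have hR1 : BrauerSuzuki.RankOne ↥(S : Subgroup G) := fun a b ha hb hab => by
      by_contra hne
      have hsq : ∀ {c : ↥(S : Subgroup G)}, orderOf c = 2 → (c : G) * c = 1 ∧ (c : G) ≠ 1 := fun {c} hc => by
        constructor
        · have := congrArg Subtype.val (pow_orderOf_eq_one c)
          rwa [hc, pow_two] at this
        · intro e
          rw [show c = 1 from Subtype.ext e, orderOf_one] at hc
          omega
      exact h1 ⟨a, a.2, b, b.2, (hsq ha).1, (hsq ha).2, (hsq hb).1, (hsq hb).2, congrArg Subtype.val hab.eq,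
        fun e => hne (Subtype.ext e)⟩
    have hcyc := BrauerSuzuki.abCyclic hR1 (S := ⊤) (S.2.to_subgroup ⊤)
    have hab : AbCyc.AbCyclic ↥(S : Subgroup G) := by
      intro A hA
      haveI := hA
      have e := equivMapOfInjective A (topEquiv (G := ↥(S : Subgroup G))).symm.toMonoidHom
        (topEquiv (G := ↥(S : Subgroup G))).symm.injective
      haveI : IsMulCommutative ↥(A.map (topEquiv (G := ↥(S : Subgroup G))).symm.toMonoidHom) :=
        ⟨⟨fun a b => e.symm.injective (by rw [map_mul, map_mul, mul_comm'])⟩⟩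
      exact e.isCyclic.2 (hcyc _ inferInstance)
    rcases FpfStruct.cyclic_or_quaternion S.2 hab with hc | ⟨-, n, ⟨e⟩⟩
    · exact hns (MinNonCA.solvable_of_cyclic S hc)
    · rcases n with _ | n
      · refine hns (MinNonCA.solvable_of_cyclic S (e.isCyclic.2 ?_))
        rw [pow_zero]
        exact QuaternionGroup.quaternionGroup_one_isCyclic
      · exact (hnQ S n).false e
  refine ⟨hri.map π hπ hodd, PBasic.pPrimeCore_quotient_pPrimeCore 2 G, fun hs => hns ?_, fun T => ?_, hnC⟩
  · haveI := hs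
    haveI := GW.oddCore_solvable (X := G)
    exact Group.isSolvable_of_ker_le_range (Cfsg.oddCore G).subtype π (by rw [hker, range_subtype])
  · obtain ⟨S, hS⟩ := lift_sylow π hπ T
    obtain ⟨a, ha, b, hb, haa, ha1, hbb, hb1, hab, hne⟩ := htwo S
    have key : ∀ x ∈ (S : Subgroup G), π x = 1 → x = 1 := fun x hx e =>
      eq_one_of_odd S.2 hodd hx (MonoidHom.mem_ker.2 e)
    exact ⟨π a, hS ▸ mem_map_of_mem π ha, π b, hS ▸ mem_map_of_mem π hb, by rw [← map_mul, haa, map_one],
      fun e => ha1 (key a ha e), by rw [← map_mul, hbb, map_one], fun e => hb1 (key b hb e),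
      by rw [← map_mul, ← map_mul, hab],
      fun e => hne (mul_inv_eq_one.1 (key _ (mul_mem ha (inv_mem hb)) (by
        rw [map_mul, map_inv, e, mul_inv_cancel])))⟩

/-- A Sylow subgroup with three commuting involutions centralises the odd core. -/
theorem oddCore_le_centralizer (hri : RI G) {S : Sylow 2 G} (h3 : HasThree (S : Subgroup G)) :
    Cfsg.oddCore G ≤ centralizer ((S : Subgroup G) : Set G) := by
  haveI : Fact (Nat.Prime 2) := ⟨Nat.prime_two⟩
  haveI hOn : (Cfsg.oddCore G).Normal := GW.oddCore_normal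
  obtain ⟨a, ha, b, hb, c, hc, haa, ha1, hbb, hb1, hcc, hc1, hab, hac, hbc, hne, hca, hcb, hcab⟩ := h3
  set O := Cfsg.oddCore G with hO
  have hodd : Odd (Nat.card O) := GW.oddCore_odd
  have hn : ∀ g : G, ∀ o ∈ O, g * o * g⁻¹ ∈ O := fun g o ho => hOn.conj_mem o ho g
  -- fixing two commuting involutions
  have fix : ∀ {t v : G}, t ∈ (S : Subgroup G) → v ∈ (S : Subgroup G) → t * t = 1 → t ≠ 1 → v * v = 1 → v ≠ 1 →
      t * v = v * t → t ≠ v → ∀ o ∈ O, o * t = t * o → o * v = v * o →
      o ∈ centralizer ((S : Subgroup G) : Set G) := by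
    intro t v ht hv htt ht1 hvv hv1 htv htv' o ho hot hov
    have hN : o ∈ normalizer ((S : Subgroup G) : Set G) := Sylow.smul_eq_iff_mem_normalizer.1 (by
      refine hri.eq_of_two (X := ((o • S : Sylow 2 G) : Subgroup G) ⊓ (S : Subgroup G))
        ⟨t, mem_inf.2 ⟨?_, ht⟩, v, mem_inf.2 ⟨?_, hv⟩, htt, ht1, hvv, hv1, htv, htv'⟩ inf_le_left inf_le_right
      · rwa [CentralInter.mem_smul_sylow, mul_assoc, ← hot, inv_mul_cancel_left]
      · rwa [CentralInter.mem_smul_sylow, mul_assoc, ← hov, inv_mul_cancel_left])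
    refine mem_centralizer_iff.2 fun s hs => ?_
    have h1 : o * s * o⁻¹ * s⁻¹ = 1 := eq_one_of_odd S.2 hodd
      (mul_mem ((mem_normalizer_iff.1 hN s).1 hs) (inv_mem hs)) (by
        rw [show o * s * o⁻¹ * s⁻¹ = o * (s * o⁻¹ * s⁻¹) by group]
        exact mul_mem ho (hn s _ (inv_mem ho)))
    exact (mul_inv_eq_iff_eq_mul.1 (mul_inv_eq_one.1 h1)).symm
  -- the centraliser of one involution
  have one : ∀ {t x y : G}, t ∈ (S : Subgroup G) → x ∈ (S : Subgroup G) → y ∈ (S : Subgroup G) → t * t = 1 →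
      t ≠ 1 → x * x = 1 → x ≠ 1 → y * y = 1 → y ≠ 1 → t * x = x * t → t * y = y * t → x * y = y * x → x ≠ y →
      t ≠ x → t ≠ y → t ≠ x * y → O ⊓ centralizer {t} ≤ centralizer ((S : Subgroup G) : Set G) := by
    intro t x y ht hx hy htt ht1 hxx hx1 hyy hy1 htx hty hxy hne1 hne2 hne3 hne4
    have hK : Odd (Nat.card ↥(O ⊓ centralizer ({t} : Set G))) := hodd.of_dvd_nat (card_dvd_of_le inf_le_left)
    have hnK : ∀ {g : G}, t * g = g * t → ∀ o ∈ O ⊓ centralizer ({t} : Set G),
        g * o * g⁻¹ ∈ O ⊓ centralizer ({t} : Set G) := fun {g} hg o ho => mem_inf.2 ⟨hn g o (mem_inf.1 ho).1,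
      mem_centralizer_singleton_iff.2 (by
        have h1 : Commute t o := (mem_centralizer_singleton_iff.1 (mem_inf.1 ho).2).symm
        exact ((Commute.mul_right (Commute.mul_right hg h1) (Commute.inv_right hg))).eq.symm)⟩
    refine (DoubleCoverDeg.le_four_sup _ hK hxx hyy hxy (hnK htx) (hnK hty)).trans (sup_le ?_ (sup_le ?_ ?_))
    · exact fun o ho => fix ht hx htt ht1 hxx hx1 htx hne2 o (mem_inf.1 (mem_inf.1 ho).1).1
        (mem_centralizer_singleton_iff.1 (mem_inf.1 (mem_inf.1 ho).1).2)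
        (mem_centralizer_singleton_iff.1 (mem_inf.1 ho).2)
    · exact fun o ho => fix ht hy htt ht1 hyy hy1 hty hne3 o (mem_inf.1 (mem_inf.1 ho).1).1
        (mem_centralizer_singleton_iff.1 (mem_inf.1 (mem_inf.1 ho).1).2)
        (mem_centralizer_singleton_iff.1 (mem_inf.1 ho).2)
    · exact fun o ho => fix ht (mul_mem hx hy) htt ht1
        (by rw [(Commute.mul_mul_mul_comm (show Commute y x from hxy.symm)), hxx, hyy, one_mul])
        (fun e => hne1 (by rw [← inv_eq_of_mul_eq_one_right e, inv_eq_of_mul_eq_one_right hxx]))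
        ((Commute.mul_right htx hty).eq) hne4 o (mem_inf.1 (mem_inf.1 ho).1).1
        (mem_centralizer_singleton_iff.1 (mem_inf.1 (mem_inf.1 ho).1).2)
        (mem_centralizer_singleton_iff.1 (mem_inf.1 ho).2)
  refine (DoubleCoverDeg.le_four_sup O hodd haa hbb hab (hn a) (hn b)).trans (sup_le ?_ (sup_le ?_ ?_))
  · exact one ha hb hc haa ha1 hbb hb1 hcc hc1 hab hac hbc hcb.symm hne hca.symm
      (fun e => hcab (by rw [e, mul_assoc, ← hbc, ← mul_assoc, hbb, one_mul]))
  · exact one hb ha hc hbb hb1 haa ha1 hcc hc1 hab.symm hbc hac hca.symm hne.symm hcb.symm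
      (fun e => hcab (by rw [e, ← mul_assoc, haa, one_mul]))
  · refine one (mul_mem ha hb) ha hc (by rw [(Commute.mul_mul_mul_comm (show Commute b a from hab.symm)), haa,
      hbb, one_mul]) (fun e => hne (by rw [← inv_eq_of_mul_eq_one_right e, inv_eq_of_mul_eq_one_right haa]))
      haa ha1 hcc hc1 ?_ ?_ hac hca.symm ?_ hcab.symm ?_
    · exact ((Commute.refl a).mul_left (show Commute b a from hab.symm)).eq
    · exact (Commute.mul_left (show Commute a c from hac) hbc).eq
    · exact fun e => hb1 (mul_eq_left.1 e)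
    · exact fun e => hcb (mul_left_cancel e).symm

end Cfsg.Agent.GoldCons.RankOneInter
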