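import Cfsg.Agent.Lib.GoldCons.RankOneInter.Lift

/-!
Non-solvable groups with intersections of Sylow 2-subgroups of rank one (S3310), from the strongly closed theorem.
-/

set_option autoImplicit false
set_option linter.style.haveILetI false
set_option linter.unusedSectionVars false

namespace Cfsg.Agent.GoldCons.RankOneInter

open Subgroup

universe u

variable {G : Type u} [Group G] [Finite G]

/-- S3310 from the strongly closed abelian theorem. -/
theorem S3310_of (hA : ClosedStmt.{u}) {G : Type u} [Group G] [Finite G] (hns : ¬ Group.IsSolvable G)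
    (hI : ∀ S T : Sylow 2 G, S ≠ T → Cfsg.PRankLE 2 1 ↥((S : Subgroup G) ⊓ (T : Subgroup G)))
    (hnC : ∃ S T : Sylow 2 (G ⧸ Cfsg.oddCore G), S ≠ T ∧
      ¬ IsCyclic ↥((S : Subgroup (G ⧸ Cfsg.oddCore G)) ⊓ (T : Subgroup (G ⧸ Cfsg.oddCore G))))
    (hnQ : ∀ S : Sylow 2 G, ∀ n : ℕ, IsEmpty (↥(S : Subgroup G) ≃* QuaternionGroup (2 ^ (n + 1)))) :
    (∃ (G₁ : Subgroup G) (_ : G₁.Normal) (_ : ((Cfsg.pCore 2 G ⊔ Cfsg.oddCore G).subgroupOf G₁).Normal),
      Odd G₁.index ∧ Cfsg.pCore 2 G ⊔ Cfsg.oddCore G ≤ G₁ ∧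
      (∃ n : ℕ, Nonempty (↥(Cfsg.pCore 2 G) ≃* QuaternionGroup (2 ^ (n + 1)))) ∧
      ((∃ (n : ℕ) (F : Type) (_ : Field F) (_ : Fintype F), 2 ≤ n ∧ Fintype.card F = 2 ^ n ∧
          Nonempty (↥G₁ ⧸ (Cfsg.pCore 2 G ⊔ Cfsg.oddCore G).subgroupOf G₁ ≃* Matrix.ProjectiveSpecialLinearGroup (Fin 2) F)) ∨
       (∃ (m : ℕ) (F : Type) (_ : Field F) (_ : Fintype F), 1 ≤ m ∧ Fintype.card F = 2 ^ (2 * m + 1) ∧
          Nonempty (↥G₁ ⧸ (Cfsg.pCore 2 G ⊔ Cfsg.oddCore G).subgroupOf G₁ ≃* ↥(Cfsg.Lie.Sz F (2 ^ (m + 1))))) ∨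
       (∃ (n : ℕ) (F : Type) (_ : Field F) (_ : Fintype F), 2 ≤ n ∧ Fintype.card F = 4 ^ n ∧
          Nonempty (↥G₁ ⧸ (Cfsg.pCore 2 G ⊔ Cfsg.oddCore G).subgroupOf G₁ ≃* Cfsg.PSU 3 F (2 ^ n))))) ∨
    (∃ (G₁ : Subgroup G) (_ : G₁.Normal) (_ : ((Cfsg.oddCore G).subgroupOf G₁).Normal),
      (Odd G₁.index ∨ ∃ k : ℕ, Odd k ∧ G₁.index = 2 * k) ∧ Cfsg.oddCore G ≤ G₁ ∧
      ∃ (Z : Subgroup (Matrix.SpecialLinearGroup (Fin 2) (ZMod 5) × Matrix.SpecialLinearGroup (Fin 2) (ZMod 5))) (_ : Z.Normal),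
        Z = Subgroup.zpowers ((-1 : Matrix.SpecialLinearGroup (Fin 2) (ZMod 5)), (-1 : Matrix.SpecialLinearGroup (Fin 2) (ZMod 5))) ∧
        Nonempty (↥G₁ ⧸ (Cfsg.oddCore G).subgroupOf G₁ ≃*
          (Matrix.SpecialLinearGroup (Fin 2) (ZMod 5) × Matrix.SpecialLinearGroup (Fin 2) (ZMod 5)) ⧸ Z)) := by
  classical
  haveI : Fact (Nat.Prime 2) := ⟨Nat.prime_two⟩
  have hri := ri_of_rank hI
  have hX := hyp_quotient hns hri hnC hnQ
  haveI hOn : (Cfsg.oddCore G).Normal := GW.oddCore_normal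
  set π := QuotientGroup.mk' (Cfsg.oddCore G) with hπdef
  have hπ : Function.Surjective π := QuotientGroup.mk'_surjective _
  have hker : π.ker = Cfsg.oddCore G := QuotientGroup.ker_mk' _
  have hodd : Odd (Nat.card π.ker) := by rw [hker]; exact GW.oddCore_odd
  rcases outA_or_outB hA hX with ⟨⟨n, ⟨eR⟩⟩, ⟨S', hS'⟩, L, hLn, hLc, hLi, hB⟩ | ⟨E, hEn, hEi, Z, hZn, hZ, ⟨e⟩⟩
  · left
    haveI := hLn
    obtain ⟨S, hS⟩ := lift_sylow π hπ S'
    have key : ∀ x ∈ (S : Subgroup G), π x = 1 → x = 1 := fun x hx e =>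
      eq_one_of_odd S.2 hodd hx (MonoidHom.mem_ker.2 e)
    -- three commuting involutions above
    have h3 : HasThree (S : Subgroup G) := by
      obtain ⟨a, ha, b, hb, c, hc, haa, ha1, hbb, hb1, hcc, hc1, hab, hac, hbc, hne, hca, hcb, hcab⟩ := hS'
      obtain ⟨a, haS, rfl⟩ := hS.ge ha
      obtain ⟨b, hbS, rfl⟩ := hS.ge hb
      obtain ⟨c, hcS, rfl⟩ := hS.ge hc
      have h2 : ∀ {x : G}, x ∈ (S : Subgroup G) → π x * π x = 1 → x * x = 1 := fun {x} hx e =>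
        key _ (mul_mem hx hx) (by rw [map_mul, e])
      have hcm : ∀ {x y : G}, x ∈ (S : Subgroup G) → y ∈ (S : Subgroup G) → π x * π y = π y * π x →
          x * y = y * x := fun {x y} hx hy e => mul_inv_eq_one.1 (key _ (mul_mem (mul_mem hx hy)
            (inv_mem (mul_mem hy hx))) (by rw [map_mul, map_inv, map_mul, map_mul, e, mul_inv_cancel]))
      exact ⟨a, haS, b, hbS, c, hcS, h2 haS haa, fun e => ha1 (by rw [e, map_one]), h2 hbS hbb,
        fun e => hb1 (by rw [e, map_one]), h2 hcS hcc, fun e => hc1 (by rw [e, map_one]), hcm haS hbS hab,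
        hcm haS hcS hac, hcm hbS hcS hbc, fun e => hne (by rw [e]), fun e => hca (by rw [e]),
        fun e => hcb (by rw [e]), fun e => hcab (by rw [e, map_mul])⟩
    have hOC := oddCore_le_centralizer hri h3
    set R := Cfsg.pCore 2 (G ⧸ Cfsg.oddCore G) with hR
    haveI hRn : R.Normal := R_normal
    set Q := (S : Subgroup G) ⊓ R.comap π with hQ
    have hQmap : Q.map π = R := by
      refine le_antisymm (map_le_iff_le_comap.2 inf_le_right) fun r hr => ?_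
      obtain ⟨s, hs, rfl⟩ := hS.ge (R_le S' hr)
      exact mem_map_of_mem π (mem_inf.2 ⟨hs, hr⟩)
    have hQn : Q.Normal := by
      refine ⟨fun q hq g => ?_⟩
      have hg : g * q * g⁻¹ ∈ R.comap π := (Normal.comap hRn π).conj_mem q (mem_inf.1 hq).2 g
      obtain ⟨q', hq', he⟩ := hQmap.ge (mem_comap.1 hg)
      have ho : q'⁻¹ * (g * q * g⁻¹) ∈ Cfsg.oddCore G := hker.le (MonoidHom.mem_ker.2 (by
        rw [map_mul, map_inv, he, inv_mul_cancel]))
      obtain ⟨k, hk⟩ := S.2 ⟨q, (mem_inf.1 hq).1⟩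
      obtain ⟨j, hj⟩ := S.2 ⟨q', (mem_inf.1 hq').1⟩
      have hk' : (g * q * g⁻¹) ^ 2 ^ (k + j) = 1 := by
        rw [conj_pow, pow_add, pow_mul, show q ^ 2 ^ k = 1 from congrArg Subtype.val hk, one_pow, mul_one,
          mul_inv_cancel]
      have hj' : q' ^ 2 ^ (k + j) = 1 := by
        rw [add_comm, pow_add, pow_mul, show q' ^ 2 ^ j = 1 from congrArg Subtype.val hj, one_pow]
      have hcm : Commute q' (q'⁻¹ * (g * q * g⁻¹)) := mem_centralizer_iff.1 (hOC ho) q' (mem_inf.1 hq').1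
      have hpow : (q'⁻¹ * (g * q * g⁻¹)) ^ 2 ^ (k + j) = 1 := by
        have := hcm.mul_pow (2 ^ (k + j))
        rwa [mul_inv_cancel_left, hk', hj', one_mul, eq_comm] at this
      have h1 : q'⁻¹ * (g * q * g⁻¹) = 1 := by
        have hd := Nat.dvd_gcd (orderOf_dvd_of_pow_eq_one hpow) (orderOf_dvd_natCard _ ho)
        rw [Nat.Coprime.gcd_eq_one (Nat.Coprime.pow_left _ (Nat.coprime_two_left.2 GW.oddCore_odd))] at hd
        exact orderOf_eq_one_iff.1 (Nat.dvd_one.1 hd)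
      have e1 : g * q * g⁻¹ = q' := (inv_mul_eq_one.1 h1).symm
      rw [e1]
      exact hq'
    have hQc : Cfsg.pCore 2 G = Q := by
      refine le_antisymm (fun x hx => mem_inf.2 ⟨R_le S hx, ?_⟩) (le_sSup ⟨hQn, S.2.to_le inf_le_left⟩)
      exact (le_sSup (show (Cfsg.pCore 2 G).map π ∈ {N : Subgroup _ | N.Normal ∧ IsPGroup 2 N} from
        ⟨Normal.map (R_normal (X := G)) π hπ, (R_isPGroup (X := G)).map π⟩)) (mem_map_of_mem π hx)
    have hN : Cfsg.pCore 2 G ⊔ Cfsg.oddCore G = R.comap π := by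
      rw [hQc, ← hQmap, comap_map_eq, hker]
    let f : ↥Q →* ↥R := (π.comp Q.subtype).codRestrict R fun q => (mem_inf.1 q.2).2
    have hf : Function.Bijective f := by
      refine ⟨fun p q e => ?_, fun r => ?_⟩
      · have e' : π p = π q := congrArg Subtype.val e
        refine Subtype.ext (mul_inv_eq_one.1 (key _ (mul_mem (mem_inf.1 p.2).1 (inv_mem (mem_inf.1 q.2).1)) ?_))
        rw [map_mul, map_inv, e', mul_inv_cancel]
      · obtain ⟨q, hq, he⟩ := hQmap.ge r.2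
        exact ⟨⟨q, hq⟩, Subtype.ext he⟩
    have eQ : ↥(Cfsg.pCore 2 G) ≃* QuaternionGroup (2 ^ (n + 1)) :=
      (MulEquiv.subgroupCongr hQc).trans ((MulEquiv.ofBijective f hf).trans eR)
    haveI hEn : (L ⊔ R).Normal := Subgroup.sup_normal _ _
    set G₁ := (L ⊔ R).comap π with hG₁
    haveI hn1 : ((Cfsg.pCore 2 G ⊔ Cfsg.oddCore G).subgroupOf G₁).Normal := by
      haveI : (Cfsg.pCore 2 G ⊔ Cfsg.oddCore G).Normal := hN ▸ Normal.comap hRn π
      exact Normal.subgroupOf ‹_› _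
    let g : ↥G₁ →* ↥(L ⊔ R) ⧸ R.subgroupOf (L ⊔ R) :=
      (QuotientGroup.mk' _).comp (π.subgroupComap (L ⊔ R))
    have hgs : Function.Surjective g := (QuotientGroup.mk'_surjective _).comp
      (π.subgroupComap_surjective_of_surjective (L ⊔ R) hπ)
    have hgk : (Cfsg.pCore 2 G ⊔ Cfsg.oddCore G).subgroupOf G₁ = g.ker := by
      ext x
      rw [mem_subgroupOf, hN, mem_comap, MonoidHom.mem_ker]
      exact (QuotientGroup.eq_one_iff (N := R.subgroupOf (L ⊔ R)) (π.subgroupComap (L ⊔ R) x)).symm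
    have hZ : R.subgroupOf L = center ↥L := by
      ext x
      rw [mem_subgroupOf, mem_center_iff_R hX.odd hLc]
    let e : ↥G₁ ⧸ (Cfsg.pCore 2 G ⊔ Cfsg.oddCore G).subgroupOf G₁ ≃* ↥L ⧸ center ↥L :=
      ((QuotientGroup.quotientMulEquivOfEq hgk).trans (QuotientGroup.quotientKerEquivOfSurjective g hgs)).trans
        ((QuotientGroup.quotientInfEquivProdNormalQuotient L R).symm.trans (QuotientGroup.quotientMulEquivOfEq hZ))
    refine ⟨G₁, hEn.comap π, hn1, ?_, ?_, ⟨n, ⟨eQ⟩⟩, ?_⟩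
    · rw [hG₁, index_comap_of_surjective _ hπ]
      exact hLi
    · rw [hN]
      exact comap_mono le_sup_right
    rcases hB with ⟨m, F, i1, i2, hm, hq, ⟨t⟩⟩ | ⟨m, F, i1, i2, hm, hq, ⟨t⟩⟩ | ⟨m, F, i1, i2, hm, hq, ⟨t⟩⟩
    · exact Or.inl ⟨m, F, i1, i2, hm, hq, ⟨e.trans t⟩⟩
    · exact Or.inr (Or.inl ⟨m, F, i1, i2, hm, hq, ⟨e.trans t⟩⟩)
    · exact Or.inr (Or.inr ⟨m, F, i1, i2, hm, hq, ⟨e.trans t⟩⟩)
  · right
    haveI := hEn
    set G₁ := E.comap π with hG₁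
    let f : ↥G₁ →* ↥E := π.subgroupComap E
    have hfs : Function.Surjective f := π.subgroupComap_surjective_of_surjective E hπ
    have hfk : (Cfsg.oddCore G).subgroupOf G₁ = f.ker := by
      ext x
      rw [mem_subgroupOf, MonoidHom.mem_ker, ← Subtype.coe_inj]
      constructor
      · exact fun hx => MonoidHom.mem_ker.1 (hker.ge hx)
      · exact fun hx => hker.le (MonoidHom.mem_ker.2 hx)
    haveI hn1 : ((Cfsg.oddCore G).subgroupOf G₁).Normal := inferInstance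
    refine ⟨G₁, hEn.comap π, hn1, Or.inl ?_, fun x hx => ?_, Z, hZn, hZ,
      ⟨((QuotientGroup.quotientMulEquivOfEq hfk).trans (QuotientGroup.quotientKerEquivOfSurjective f hfs)).trans e⟩⟩
    · rw [hG₁, index_comap_of_surjective _ hπ]
      exact hEi
    · rw [hG₁, mem_comap, show π x = 1 from MonoidHom.mem_ker.1 (hker.ge hx)]
      exact one_mem E

end Cfsg.Agent.GoldCons.RankOneInter
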