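import Cfsg.Agent.Lib.GoldCons.RankOneInter.Comp
import Cfsg.Agent.Lib.GoldCons.RankOneInter.Cover
import Cfsg.Agent.Lib.GW.Main
import Cfsg.Agent.Lib.GW.RankOne

/-!
A component determining the Sylow subgroups: the 2-core is quaternion and the component is a Bender group modulo
its centre.
-/

set_option autoImplicit false
set_option linter.style.haveILetI false
set_option linter.unusedSectionVars false

namespace Cfsg.Agent.GoldCons.RankOneInter

open Subgroup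
open scoped Pointwise commutatorElement

universe u

/-- The groups with a strongly embedded subgroup. -/
def Bender (K : Type u) [Group K] : Prop :=
  (∃ (n : ℕ) (F : Type) (_ : Field F) (_ : Fintype F), 2 ≤ n ∧ Fintype.card F = 2 ^ n ∧
      Nonempty (K ≃* Matrix.ProjectiveSpecialLinearGroup (Fin 2) F)) ∨
    (∃ (m : ℕ) (F : Type) (_ : Field F) (_ : Fintype F), 1 ≤ m ∧ Fintype.card F = 2 ^ (2 * m + 1) ∧
      Nonempty (K ≃* ↥(Cfsg.Lie.Sz F (2 ^ (m + 1))))) ∨
    (∃ (n : ℕ) (F : Type) (_ : Field F) (_ : Fintype F), 2 ≤ n ∧ Fintype.card F = 4 ^ n ∧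
      Nonempty (K ≃* Cfsg.PSU 3 F (2 ^ n)))

theorem bender_of_se {K : Type u} [Group K] [Finite K] [IsSimpleGroup K]
    (h : ∃ H : Subgroup K, Cfsg.IsStronglyEmbedded H) : Bender K := by
  obtain ⟨H, hH⟩ := h
  rcases SEMain.bender_of_simple SEMain.stmt hH with ⟨F, i1, i2, ⟨n, hn, hq⟩, he⟩ | hSz |
    ⟨F, i1, i2, n, hn, hq, he⟩
  · exact Or.inl ⟨n, F, i1, i2, hn, hq, he⟩
  · obtain ⟨F, i1, i2, m, hm, hq, he⟩ := hSz
    exact Or.inr (Or.inl ⟨m, F, i1, i2, hm, hq, he⟩)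
  · refine Or.inr (Or.inr ⟨n, F, i1, i2, hn, ?_, he⟩)
    rw [hq, ← pow_mul, mul_comm, pow_mul]
    norm_num

/-- Three independent commuting involutions. -/
def HasThree {X : Type u} [Group X] (H : Subgroup X) : Prop :=
  ∃ a ∈ H, ∃ b ∈ H, ∃ c ∈ H, a * a = 1 ∧ a ≠ 1 ∧ b * b = 1 ∧ b ≠ 1 ∧ c * c = 1 ∧ c ≠ 1 ∧
    a * b = b * a ∧ a * c = c * a ∧ b * c = c * b ∧ a ≠ b ∧ c ≠ a ∧ c ≠ b ∧ c ≠ a * b

variable {X : Type u} [Group X] [Finite X]

/-- The first conclusion. -/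
def OutA (X : Type u) [Group X] : Prop :=
  (∃ n : ℕ, Nonempty (↥(Cfsg.pCore 2 X) ≃* QuaternionGroup (2 ^ (n + 1)))) ∧
    (∃ S : Sylow 2 X, HasThree (S : Subgroup X)) ∧
    ∃ L : Subgroup X, L.Normal ∧ Cfsg.IsComponent L ∧ Odd (L ⊔ Cfsg.pCore 2 X).index ∧
      Bender (↥L ⧸ center ↥L)

variable {L : Subgroup X}

/-- Two commuting involutions in a component make it determine the Sylow subgroups. -/
theorem det_of_two (h : Hyp X) (hL : Cfsg.IsComponent L) (hL2 : HasTwo L) : Det L := by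
  haveI : Fact (Nat.Prime 2) := ⟨Nat.prime_two⟩
  obtain ⟨a, ha, b, hb, haa, ha1, hbb, hb1, hab, hne⟩ := hL2
  intro S T hST
  obtain ⟨T₀, hT₀⟩ := exists_syl hL S
  obtain ⟨F, hFa, hFb, hF4, -, -⟩ := ZCGroup.exists_four (S := ↥L) (a := ⟨a, ha⟩) (b := ⟨b, hb⟩)
    (Subtype.ext hab) (Subtype.ext haa) (Subtype.ext hbb) (fun e => ha1 (congrArg Subtype.val e))
    (fun e => hb1 (congrArg Subtype.val e)) (fun e => hne (congrArg Subtype.val e))
  obtain ⟨R, hR⟩ := (IsPGroup.of_card (p := 2) (n := 2) hF4).exists_le_sylow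
  obtain ⟨g, hg⟩ := MulAction.exists_smul_eq ↥L R T₀
  have hmem : ∀ x : ↥L, x ∈ F → ((g * x * g⁻¹ : ↥L) : X) ∈ (S : Subgroup X) ⊓ L := fun x hx => by
    refine ⟨?_, (g * x * g⁻¹).2⟩
    have h1 : g * x * g⁻¹ ∈ (T₀ : Subgroup ↥L) := by
      rw [← hg, CentralInter.mem_smul_sylow, show g⁻¹ * (g * x * g⁻¹) * g = x by group]
      exact hR hx
    rwa [hT₀, mem_subgroupOf] at h1
  refine h.ri.eq_of_two (X := (S : Subgroup X) ⊓ L) ⟨_, hmem _ hFa, _, hmem _ hFb, ?_, ?_, ?_, ?_, ?_, ?_⟩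
    inf_le_left (hST.le.trans inf_le_left)
  · simp only [coe_mul, coe_inv]
    rw [show (g : X) * a * (g : X)⁻¹ * ((g : X) * a * (g : X)⁻¹) = g * (a * a) * (g : X)⁻¹ by group, haa, mul_one,
      mul_inv_cancel]
  · exact fun e => ha1 (conj_eq_one_iff.1 (e : (g : X) * a * (g : X)⁻¹ = 1))
  · simp only [coe_mul, coe_inv]
    rw [show (g : X) * b * (g : X)⁻¹ * ((g : X) * b * (g : X)⁻¹) = g * (b * b) * (g : X)⁻¹ by group, hbb, mul_one,
      mul_inv_cancel]
  · exact fun e => hb1 (conj_eq_one_iff.1 (e : (g : X) * b * (g : X)⁻¹ = 1))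
  · simp only [coe_mul, coe_inv]
    rw [show (g : X) * a * (g : X)⁻¹ * ((g : X) * b * (g : X)⁻¹) = g * (a * b) * (g : X)⁻¹ by group, hab]
    group
  · exact fun e => hne (mul_left_cancel (mul_right_cancel
      (e : (g : X) * a * (g : X)⁻¹ = (g : X) * b * (g : X)⁻¹)))

/-- The simple quotient intersects trivially once every preimage of an involution fixes the Sylow subgroup. -/
theorem ti_quot (hO : Cfsg.oddCore X = ⊥) (hL : Cfsg.IsComponent L)
    (hfix : ∀ x : ↥L, x * x ∈ center ↥L → x ∉ center ↥L → ∀ S T : Sylow 2 X,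
      (x : X) ∈ (S : Subgroup X) → (x : X) ∈ (T : Subgroup X) → S = T) : TI (↥L ⧸ center ↥L) := by
  haveI : Fact (Nat.Prime 2) := ⟨Nat.prime_two⟩
  set π := QuotientGroup.mk' (center ↥L) with hπ
  have hπs : Function.Surjective π := QuotientGroup.mk'_surjective _
  have hlift : ∀ U : Sylow 2 (↥L ⧸ center ↥L), ∃ S : Sylow 2 X, ∀ x : ↥L,
      π x ∈ (U : Subgroup (↥L ⧸ center ↥L)) ↔ (x : X) ∈ (S : Subgroup X) := by
    intro U
    obtain ⟨T₁⟩ : Nonempty (Sylow 2 ↥L) := inferInstance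
    obtain ⟨q, hq⟩ := MulAction.exists_smul_eq (↥L ⧸ center ↥L) (T₁.mapSurjective hπs) U
    obtain ⟨g, rfl⟩ := hπs q
    obtain ⟨S, hS⟩ := exists_over (g • T₁)
    refine ⟨S, fun x => ?_⟩
    rw [← mem_subgroupOf, ← hS, ← hq, CentralInter.mem_smul_sylow, CentralInter.mem_smul_sylow,
      Sylow.coe_mapSurjective, ← map_inv, ← map_mul, ← map_mul, ← mem_comap, comap_map_eq_self]
    rw [QuotientGroup.ker_mk']
    exact IsPGroup.le_sylow_of_normal (center_two hO hL) T₁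
  intro U V y hy hyy hy1
  obtain ⟨x, rfl⟩ := hπs y
  obtain ⟨S, hS⟩ := hlift U
  obtain ⟨T, hT⟩ := hlift V
  have he := hfix x ((QuotientGroup.eq_one_iff _).1 (by rw [← hyy]; rfl))
    (fun e => hy1 ((QuotientGroup.eq_one_iff _).2 e)) S T ((hS x).1 hy.1) ((hT x).1 hy.2)
  subst he
  refine Sylow.ext (Subgroup.ext fun w => ?_)
  obtain ⟨w, rfl⟩ := hπs w
  rw [hS, hT]

/-- A component without centre, next to a non-trivial 2-core. -/
theorem se_simple (h : Hyp X) (hR : Cfsg.pCore 2 X ≠ ⊥) (hL : Cfsg.IsComponent L)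
    (hZ : center ↥L = ⊥) : ∃ H : Subgroup (↥L ⧸ center ↥L), Cfsg.IsStronglyEmbedded H := by
  haveI := quot_simple hL
  refine se_of_ti (quot_noncomm hL) (ti_quot h.odd hL fun x hxx hx S T hS hT => ?_)
  rw [hZ, mem_bot] at hxx
  exact h.eq_of_invol hR (congrArg Subtype.val hxx) (fun hxR => hx (inf_R_le_center hL x.2 hxR)) hS hT

/-- A component with centre and two commuting involutions. -/
theorem se_cover (hA : ClosedStmt.{u}) (h : Hyp X) (hL : Cfsg.IsComponent L) (hL2 : HasTwo L)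
    (hZ : center ↥L ≠ ⊥) : ∃ H : Subgroup (↥L ⧸ center ↥L), Cfsg.IsStronglyEmbedded H := by
  haveI : Fact (Nat.Prime 2) := ⟨Nat.prime_two⟩
  have hiff := mem_center_iff_R h.odd hL
  have hR : Cfsg.pCore 2 X ≠ ⊥ := fun e => hZ ((Subgroup.eq_bot_iff_forall _).2 fun c hc => Subtype.ext (by
    have := (hiff c).1 hc
    rwa [e, mem_bot] at this))
  obtain ⟨z, hz, hzz, hz1⟩ := h.exists_z hR
  -- the involution lies in the component
  obtain ⟨c, hc, hc1⟩ := (center ↥L).bot_or_exists_ne_one.resolve_left hZ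
  obtain ⟨k, hk⟩ := IsPGroup.iff_orderOf.1 (center_two h.odd hL) ⟨c, hc⟩
  rw [orderOf_mk] at hk
  obtain ⟨j, rfl⟩ : ∃ j, k = j + 1 := by
    rcases k with _ | j
    · rw [pow_zero, orderOf_eq_one_iff] at hk; exact absurd hk hc1
    · exact ⟨j, rfl⟩
  set w := c ^ 2 ^ j with hw
  have hwo : orderOf w = 2 := by
    rw [hw, orderOf_pow_of_dvd (pow_ne_zero _ two_ne_zero) ⟨2, by rw [hk, pow_succ]⟩, hk, pow_succ,
      Nat.mul_div_cancel_left _ (pow_pos two_pos _)]
  have hww : w * w = 1 := by rw [← pow_two, ← hwo, pow_orderOf_eq_one]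
  have hwz : (w : X) = z := h.R_unique ((hiff w).1 (pow_mem hc _)) hz (congrArg Subtype.val hww)
    (fun e => by rw [show w = 1 from Subtype.ext e, orderOf_one] at hwo; omega) hzz hz1
  obtain ⟨a, ha, b, hb, haa, ha1, hbb, hb1, hab, hne⟩ := hL2
  obtain ⟨F, hFa, hFb, hF4, -, -⟩ := ZCGroup.exists_four (S := ↥L) (a := ⟨a, ha⟩) (b := ⟨b, hb⟩)
    (Subtype.ext hab) (Subtype.ext haa) (Subtype.ext hbb) (fun e => ha1 (congrArg Subtype.val e))
    (fun e => hb1 (congrArg Subtype.val e)) (fun e => hne (congrArg Subtype.val e))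
  obtain ⟨P, hP⟩ := (IsPGroup.of_card (p := 2) (n := 2) hF4).exists_le_sylow
  obtain ⟨v, hvP, hvv, hv1, hvw⟩ : ∃ v ∈ (P : Subgroup ↥L), v * v = 1 ∧ v ≠ 1 ∧ v ≠ w := by
    by_cases haw : (⟨a, ha⟩ : ↥L) = w
    · exact ⟨⟨b, hb⟩, hP hFb, Subtype.ext hbb, fun e => hb1 (congrArg Subtype.val e), fun e =>
        hne (congrArg Subtype.val (haw.trans e.symm))⟩
    · exact ⟨⟨a, ha⟩, hP hFa, Subtype.ext haa, fun e => ha1 (congrArg Subtype.val e), haw⟩
  refine cover_se hA (perfect_comp hL) (quot_simple hL) (quot_noncomm hL) (center_two h.odd hL)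
    (z := w) (pow_mem hc _) hww (fun e => by rw [e, orderOf_one] at hwo; omega) ?_ ?_ P hvP hvv hv1 hvw
  · intro d hd hdd hd1
    exact Subtype.ext ((h.R_unique ((hiff d).1 hd) hz (congrArg Subtype.val hdd)
      (fun e => hd1 (Subtype.ext e)) hzz hz1).trans hwz.symm)
  · intro S T x hx hxx hxZ
    obtain ⟨S₁, hS₁⟩ := exists_over S
    obtain ⟨T₁, hT₁⟩ := exists_over T
    have h1 : (x : X) ∈ (S₁ : Subgroup X) := hS₁.le hx.1
    have h2 : (x : X) ∈ (T₁ : Subgroup X) := hT₁.le hx.2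
    have he := h.eq_of_invol hR (congrArg Subtype.val hxx) (fun hxR => hxZ ((hiff x).2 hxR)) h1 h2
    exact Sylow.ext (by rw [hS₁, hT₁, he])

/-- The facts on a component without two commuting involutions. -/
theorem quat_facts (h : Hyp X) (hL : Cfsg.IsComponent L) (h1 : ¬ HasTwo L) :
    ∃ z : ↥L, z * z = 1 ∧ z ≠ 1 ∧ (∀ c, c ∈ center ↥L ↔ c = 1 ∨ c = z) ∧
      (∀ x : ↥L, x * x = 1 → x = 1 ∨ x = z) ∧ (z : X) ∈ Cfsg.pCore 2 X ∧
      GW.DihSylow (↥L ⧸ center ↥L) ∧ GW.IsTarget (↥L ⧸ center ↥L) := by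
  haveI : Fact (Nat.Prime 2) := ⟨Nat.prime_two⟩
  have hR1 : BrauerSuzuki.RankOne ↥L := fun a b ha hb hab => by
    by_contra hne
    have hsq : ∀ {c : ↥L}, orderOf c = 2 → (c : X) * c = 1 ∧ (c : X) ≠ 1 := fun {c} hc => by
      constructor
      · have := congrArg Subtype.val (pow_orderOf_eq_one c)
        rwa [hc, pow_two] at this
      · intro e
        rw [show c = 1 from Subtype.ext e, orderOf_one] at hc
        omega
    exact h1 ⟨a, a.2, b, b.2, (hsq ha).1, (hsq ha).2, (hsq hb).1, (hsq hb).2, congrArg Subtype.val hab.eq,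
      fun e => hne (Subtype.ext e)⟩
  haveI := hL.2.1
  have h2 : 2 ∣ Nat.card ↥L := by
    by_contra hd
    exact Components.quasisimple_not_solvable hL.2
      (MinNonCA.solvable_of_odd (Nat.odd_iff.2 (Nat.two_dvd_ne_zero.1 hd)))
  obtain ⟨S⟩ : Nonempty (Sylow 2 ↥L) := inferInstance
  obtain ⟨n, ⟨eS⟩⟩ : ∃ n, Nonempty ((S : Subgroup ↥L) ≃* QuaternionGroup (2 ^ n)) := by
    rcases FpfStruct.cyclic_or_quaternion S.2 (BrauerSuzuki.abCyclic hR1 S.2) with hc | ⟨-, hq⟩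
    · exact absurd hc (GW.perfect_not_cyclic_sylow h2 S)
    · exact hq
  have hn : 2 ≤ 2 ^ n := by
    by_contra hlt
    have h0 : 2 ^ n = 1 := by have := Nat.one_le_two_pow (n := n); omega
    refine GW.perfect_not_cyclic_sylow h2 S (eS.isCyclic.2 ?_)
    rw [h0]
    exact QuaternionGroup.quaternionGroup_one_isCyclic
  obtain ⟨-, D, -, -⟩ := BrauerSuzuki.exists_quaternion_data S hn eS
  have hnoodd : ∀ N : Subgroup ↥L, N.Normal → Odd (Nat.card N) → N = ⊥ := by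
    intro N hN ho
    haveI := hN
    rcases Components.quasisimple_normal hL.2 N with e | e
    · exfalso
      rw [e, card_top] at ho
      exact Nat.not_even_iff_odd.2 ho (even_iff_two_dvd.2 h2)
    · exact (Subgroup.eq_bot_iff_forall _).2 fun x hx => eq_one_of_odd (center_two h.odd hL) ho (e hx) hx
  have hZ : Nat.card (center ↥L) = 2 := BrauerSuzuki.card_center hR1 D hnoodd
  obtain ⟨⟨z, hzc⟩, hz1', huniv⟩ : ∃ z : center ↥L, z ≠ 1 ∧ ∀ c : center ↥L, c = 1 ∨ c = z := by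
    obtain ⟨z, hz1⟩ := @exists_ne _ (Finite.one_lt_card_iff_nontrivial.1 (show 1 < Nat.card (center ↥L) by omega))
      (1 : center ↥L)
    refine ⟨z, hz1, fun c => ?_⟩
    by_contra hno
    push Not at hno
    have := Set.ncard_le_ncard (Set.subset_univ ({1, z, c} : Set (center ↥L)))
    rw [Set.ncard_univ, hZ, Set.ncard_eq_three.2 ⟨1, z, c, hz1.symm, hno.1.symm, hno.2.symm, rfl⟩] at this
    omega
  have hz1 : z ≠ 1 := fun e => hz1' (Subtype.ext e)
  have hzz : z * z = 1 := by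
    have := pow_card_eq_one' (x := (⟨z, hzc⟩ : center ↥L))
    rw [hZ, pow_two] at this
    exact congrArg Subtype.val this
  refine ⟨z, hzz, hz1, fun c => ⟨fun hc => (huniv ⟨c, hc⟩).imp (congrArg Subtype.val) (congrArg Subtype.val),
    ?_⟩, fun x hxx => ?_, (mem_center_iff_R h.odd hL z).1 hzc, ?_, ?_⟩
  · rintro (rfl | rfl)
    · exact one_mem _
    · exact hzc
  · by_cases hx1 : x = 1
    · exact Or.inl hx1
    · exact Or.inr (hR1 x z (Invol.order_two_of_sq hxx hx1) (Invol.order_two_of_sq hzz hz1)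
        (mem_center_iff.1 hzc x))
  · obtain ⟨T, hT⟩ := SSModels.dihedral_of_quaternion hn S eS (center ↥L) hZ
    exact ⟨T, _, hn, hT⟩
  · obtain ⟨T, ⟨eT⟩⟩ := SSModels.dihedral_of_quaternion hn S eS (center ↥L) hZ
    haveI := quot_simple hL
    exact GW.simpleDihedral (↥L ⧸ center ↥L) T _ hn ⟨eT⟩

/-- An element of order four of the 2-core moves a quaternion component's element of order four to an involution. -/
theorem mul_invol (h : Hyp X) (hL : Cfsg.IsComponent L) (h1 : ¬ HasTwo L) {r : X}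
    (hr : r ∈ Cfsg.pCore 2 X) (hr4 : r * r ≠ 1) (hr44 : r * r * (r * r) = 1) {x : ↥L}
    (hxx : x * x ∈ center ↥L) (hx : x ∉ center ↥L) :
    r * (x : X) * (r * x) = 1 ∧ r * (x : X) ∉ Cfsg.pCore 2 X := by
  obtain ⟨z, hzz, hz1, hcen, huni, hzR, -, -⟩ := quat_facts h hL h1
  have hxz : x * x = z := ((hcen _).1 hxx).resolve_left fun e => hx ((hcen x).2 (huni x e))
  have hrz : r * r = (z : X) := h.R_unique (mul_mem hr hr) hzR hr44 hr4 (congrArg Subtype.val hzz)
    fun e => hz1 (Subtype.ext e)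
  have hcom : Commute r (x : X) := mem_centralizer_iff.1 (component_le_centralizer_R hL x.2) r hr
  refine ⟨?_, fun hm => ?_⟩
  · rw [hcom.symm.mul_mul_mul_comm, hrz, show (x : X) * x = z from congrArg Subtype.val hxz]
    exact congrArg Subtype.val hzz
  · refine hx ((mem_center_iff_R h.odd hL x).2 ?_)
    have := mul_mem (inv_mem hr) hm
    rwa [inv_mul_cancel_left] at this

/-- A quaternion component next to a 2-core with an element of order four. -/
theorem det_quat (h : Hyp X) (hL : Cfsg.IsComponent L) (h1 : ¬ HasTwo L) {r : X}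
    (hr : r ∈ Cfsg.pCore 2 X) (hr4 : r * r ≠ 1) (hr44 : r * r * (r * r) = 1) :
    Det L ∧ ∃ H : Subgroup (↥L ⧸ center ↥L), Cfsg.IsStronglyEmbedded H := by
  haveI : Fact (Nat.Prime 2) := ⟨Nat.prime_two⟩
  have hR : Cfsg.pCore 2 X ≠ ⊥ := fun e => by
    rw [e, mem_bot] at hr
    exact hr4 (by rw [hr, mul_one])
  have key : ∀ x : ↥L, x * x ∈ center ↥L → x ∉ center ↥L → ∀ S T : Sylow 2 X,
      (x : X) ∈ (S : Subgroup X) → (x : X) ∈ (T : Subgroup X) → S = T := fun x hxx hx S T hS hT => by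
    obtain ⟨e1, e2⟩ := mul_invol h hL h1 hr hr4 hr44 hxx hx
    exact h.eq_of_invol hR e1 e2 (mul_mem (R_le S hr) hS) (mul_mem (R_le T hr) hT)
  haveI := quot_simple hL
  refine ⟨fun S T hST => ?_, se_of_ti (quot_noncomm hL) (ti_quot h.odd hL key)⟩
  obtain ⟨T₀, hT₀⟩ := exists_syl hL S
  set π := QuotientGroup.mk' (center ↥L)
  set U := T₀.mapSurjective (f := π) (QuotientGroup.mk'_surjective _) with hU
  have h2 : 2 ∣ Nat.card (U : Subgroup (↥L ⧸ center ↥L)) := U.dvd_card_of_dvd_card (two_dvd_card (quot_noncomm hL))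
  obtain ⟨⟨y, hy⟩, hyo⟩ := exists_prime_orderOf_dvd_card' 2 h2
  rw [orderOf_mk] at hyo
  have hy2 : y * y = 1 := by rw [← pow_two, ← hyo, pow_orderOf_eq_one]
  rw [hU, Sylow.coe_mapSurjective] at hy
  obtain ⟨x, hxT, rfl⟩ := hy
  rw [hT₀] at hxT
  have hxS : (x : X) ∈ (S : Subgroup X) ⊓ L := ⟨hxT, x.2⟩
  refine key x ((QuotientGroup.eq_one_iff _).1 (by rw [← hy2]; rfl)) (fun e => ?_) S T hxS.1 (hST ▸ hxS).1
  rw [show π x = 1 from (QuotientGroup.eq_one_iff _).2 e, orderOf_one] at hyo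
  omega

end Cfsg.Agent.GoldCons.RankOneInter
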