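import Cfsg.Agent.Lib.GoldCons.RankOneInter.One

/-!
A component determining the Sylow subgroups, with a strongly embedded subgroup in its simple quotient: the first
conclusion.
-/

set_option autoImplicit false
set_option linter.style.haveILetI false
set_option linter.unusedSectionVars false

namespace Cfsg.Agent.GoldCons.RankOneInter

open Subgroup
open scoped Pointwise commutatorElement

universe u

theorem quat_center_sq {m : ℕ} (hm : 2 ≤ m) (c : QuaternionGroup m) (hc : ∀ y, y * c = c * y) : c * c = 1 := by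
  rcases c with i | i
  · have h1 := hc (QuaternionGroup.xa 0)
    rw [QuaternionGroup.xa_mul_a, QuaternionGroup.a_mul_xa, QuaternionGroup.xa.injEq] at h1
    rw [QuaternionGroup.a_mul_a, show i + i = 0 by linear_combination h1, QuaternionGroup.a_zero]
  · exfalso
    have h1 := hc (QuaternionGroup.a 1)
    rw [QuaternionGroup.a_mul_xa, QuaternionGroup.xa_mul_a, QuaternionGroup.xa.injEq] at h1
    have h2 : ((2 : ℕ) : ZMod (2 * m)) = 0 := by
      rw [Nat.cast_two]
      linear_combination -h1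
    have := Nat.le_of_dvd two_pos ((ZMod.natCast_eq_zero_iff _ _).1 h2)
    omega

theorem quat_pair {m : ℕ} (k : ℕ) (hk : 0 < k) (hmk : m = 2 * k) : ∃ p q : QuaternionGroup m,
    p * p * (p * p) = 1 ∧ q * q * (q * q) = 1 ∧ p * p ≠ 1 ∧ q * q ≠ 1 ∧ p * q ≠ q * p ∧
      p * q * (q * p)⁻¹ * (p * q * (q * p)⁻¹) = 1 := by
  subst hmk
  have h0 : ∀ j : ℕ, j < 2 * (2 * k) → j ≠ 0 → (j : ZMod (2 * (2 * k))) ≠ 0 := fun j hj hj0 e => by
    have := Nat.le_of_dvd (Nat.pos_of_ne_zero hj0) ((ZMod.natCast_eq_zero_iff _ _).1 e)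
    omega
  have hne : ((2 * k : ℕ) : ZMod (2 * (2 * k))) ≠ 0 := h0 _ (by omega) (by omega)
  have hsum : ((2 * k : ℕ) : ZMod (2 * (2 * k))) + (2 * k : ℕ) = 0 := by
    rw [← Nat.cast_add, show 2 * k + 2 * k = 2 * (2 * k) by ring, ZMod.natCast_self]
  refine ⟨QuaternionGroup.xa 0, QuaternionGroup.a (k : ZMod (2 * (2 * k))), ?_, ?_, ?_, ?_, ?_, ?_⟩
  · rw [QuaternionGroup.xa_mul_xa, add_zero, sub_zero, QuaternionGroup.a_mul_a, hsum, QuaternionGroup.a_zero]
  · rw [QuaternionGroup.a_mul_a, QuaternionGroup.a_mul_a, ← QuaternionGroup.a_zero]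
    congr 1
    rw [← hsum]; push_cast; ring
  · rw [QuaternionGroup.xa_mul_xa, add_zero, sub_zero, ← QuaternionGroup.a_zero, Ne, QuaternionGroup.a.injEq]
    exact hne
  · rw [QuaternionGroup.a_mul_a, ← QuaternionGroup.a_zero, Ne, QuaternionGroup.a.injEq]
    intro e
    exact hne (by rw [← e]; push_cast; ring)
  · rw [QuaternionGroup.xa_mul_a, QuaternionGroup.a_mul_xa, Ne, QuaternionGroup.xa.injEq]
    intro e
    exact hne (by push_cast; linear_combination e)
  · have e : QuaternionGroup.xa 0 * QuaternionGroup.a (k : ZMod (2 * (2 * k))) *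
        (QuaternionGroup.a (k : ZMod (2 * (2 * k))) * QuaternionGroup.xa 0)⁻¹ =
        QuaternionGroup.a ((2 * k : ℕ) : ZMod (2 * (2 * k))) := by
      rw [mul_inv_eq_iff_eq_mul, QuaternionGroup.xa_mul_a, QuaternionGroup.a_mul_xa, QuaternionGroup.a_mul_xa]
      congr 1
      push_cast at hsum ⊢
      linear_combination hsum
    rw [e, QuaternionGroup.a_mul_a, hsum, QuaternionGroup.a_zero]

variable {X : Type u} [Group X] [Finite X] {L : Subgroup X}

/-- Everything shared by two Sylow subgroups lies in the 2-core. -/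
theorem inter_le_R (h : Hyp X) (hL : Cfsg.IsComponent L) (hD : Det L)
    (hSE : ∃ H : Subgroup (↥L ⧸ center ↥L), Cfsg.IsStronglyEmbedded H) {S T : Sylow 2 X} (hST : S ≠ T) :
    (S : Subgroup X) ⊓ (T : Subgroup X) ≤ Cfsg.pCore 2 X := by
  haveI : Fact (Nat.Prime 2) := ⟨Nat.prime_two⟩
  intro d hd
  rw [mem_inf] at hd
  obtain ⟨l, hlS, hlL, r, hr, rfl⟩ := hD.split h.odd hL hSE S hd.1
  obtain ⟨l', hlT', hlL', r', hr', he⟩ := hD.split h.odd hL hSE T hd.2
  have hlT : l ∈ (T : Subgroup X) := by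
    have := mul_mem hd.2 (inv_mem (R_le T hr))
    rwa [mul_inv_cancel_right] at this
  set π := QuotientGroup.mk' (center ↥L) with hπ
  obtain ⟨S₀, hS₀⟩ := exists_syl hL S
  obtain ⟨T₀, hT₀⟩ := exists_syl hL T
  have hπs : Function.Surjective π := QuotientGroup.mk'_surjective _
  by_cases hl : (⟨l, hlL⟩ : ↥L) ∈ center ↥L
  · exact mul_mem ((mem_center_iff_R h.odd hL _).1 hl) hr
  exfalso
  haveI := quot_simple hL
  obtain ⟨H, hH⟩ := hSE
  have hU : S₀.mapSurjective hπs = T₀.mapSurjective hπs := (ti_of_se hH).inter (x := π ⟨l, hlL⟩)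
    (by rw [Sylow.coe_mapSurjective]; exact mem_map_of_mem π (by rw [hS₀, mem_subgroupOf]; exact hlS))
    (by rw [Sylow.coe_mapSurjective]; exact mem_map_of_mem π (by rw [hT₀, mem_subgroupOf]; exact hlT))
    fun e => hl ((QuotientGroup.eq_one_iff _).1 e)
  have hpre : ∀ U : Sylow 2 ↥L, ((U.mapSurjective hπs : Sylow 2 (↥L ⧸ center ↥L)) : Subgroup _).comap π = U := by
    intro U
    rw [Sylow.coe_mapSurjective, comap_map_eq_self]
    rw [QuotientGroup.ker_mk']
    exact IsPGroup.le_sylow_of_normal (center_two h.odd hL) U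
  have hST0 : (S₀ : Subgroup ↥L) = T₀ := by rw [← hpre S₀, ← hpre T₀, hU]
  refine hST (hD S T ?_)
  rw [← subgroupOf_map_subtype, ← subgroupOf_map_subtype, ← hS₀, ← hT₀, hST0]

/-- The first conclusion. -/
theorem outA_of_det (h : Hyp X) (hL : Cfsg.IsComponent L) (hD : Det L)
    (hSE : ∃ H : Subgroup (↥L ⧸ center ↥L), Cfsg.IsStronglyEmbedded H) : OutA X := by
  classical
  haveI : Fact (Nat.Prime 2) := ⟨Nat.prime_two⟩
  haveI := quot_simple hL
  have hiff := mem_center_iff_R h.odd hL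
  -- the 2-core is quaternion
  obtain ⟨S₁, T₁, hne₁, hnc⟩ := h.nc
  have hRnc : ¬ IsCyclic ↥(Cfsg.pCore 2 X) := fun hc =>
    hnc (CyclicInter.isCyclic_of_le (inter_le_R h hL hD hSE hne₁) hc)
  have hab : AbCyc.AbCyclic ↥(Cfsg.pCore 2 X) := by
    intro A hA
    have hcyc := BrauerSuzuki.abCyclic h.R_rankOne (S := ⊤) (R_isPGroup.to_subgroup ⊤)
    haveI := hA
    have e := equivMapOfInjective A (topEquiv (G := ↥(Cfsg.pCore 2 X))).symm.toMonoidHom
      (topEquiv (G := ↥(Cfsg.pCore 2 X))).symm.injective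
    haveI : IsMulCommutative ↥(A.map (topEquiv (G := ↥(Cfsg.pCore 2 X))).symm.toMonoidHom) :=
      ⟨⟨fun a b => e.symm.injective (by rw [map_mul, map_mul, mul_comm'])⟩⟩
    exact e.isCyclic.2 (hcyc _ inferInstance)
  obtain ⟨n, ⟨eR⟩⟩ : ∃ n : ℕ, Nonempty (↥(Cfsg.pCore 2 X) ≃* QuaternionGroup (2 ^ (n + 1))) := by
    rcases FpfStruct.cyclic_or_quaternion R_isPGroup hab with hc | ⟨-, n, ⟨e⟩⟩
    · exact absurd hc hRnc
    · rcases n with _ | n
      · refine absurd (e.isCyclic.2 ?_) hRnc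
        rw [pow_zero]
        exact QuaternionGroup.quaternionGroup_one_isCyclic
      · exact ⟨n, ⟨e⟩⟩
  have hm : 2 ≤ 2 ^ (n + 1) := le_trans (by norm_num) (Nat.pow_le_pow_right two_pos (Nat.le_add_left 1 n))
  have hR : Cfsg.pCore 2 X ≠ ⊥ := fun e => hRnc (by rw [e]; infer_instance)
  obtain ⟨z, hz, hzz, hz1⟩ := h.exists_z hR
  -- the centre of the component has exponent two
  have hZ2 : ∀ c ∈ center ↥L, c * c = 1 := fun c hc => by
    have hcR := (hiff c).1 hc
    have h1 := quat_center_sq hm (eR ⟨c, hcR⟩) fun y => by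
      obtain ⟨r, rfl⟩ := eR.surjective y
      rw [← map_mul, ← map_mul]
      refine congrArg eR (Subtype.ext ?_)
      exact (mem_centralizer_iff.1 (component_le_centralizer_R hL c.2) r r.2)
    rw [← map_mul, MulEquiv.map_eq_one_iff] at h1
    exact Subtype.ext (congrArg Subtype.val h1 :)
  have hcR : ∀ {r : X}, r ∈ Cfsg.pCore 2 X → ∀ x : ↥L, Commute r (x : X) := fun hr x =>
    mem_centralizer_iff.1 (component_le_centralizer_R hL x.2) _ hr
  refine ⟨⟨n, ⟨eR⟩⟩, ?_, L, hD.normal hL, hL, ?_, bender_of_se hSE⟩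
  swap
  · obtain ⟨S⟩ : Nonempty (Sylow 2 X) := inferInstance
    have hle : (S : Subgroup X) ≤ L ⊔ Cfsg.pCore 2 X := fun s hs => by
      obtain ⟨l, -, hl, r, hr, rfl⟩ := hD.split h.odd hL hSE S hs
      exact mul_mem (mem_sup_left hl) (mem_sup_right hr)
    exact Nat.odd_iff.2 (Nat.two_dvd_ne_zero.1 fun hd => S.not_dvd_index (hd.trans (index_dvd_of_le hle)))
  -- three commuting involutions
  obtain ⟨S⟩ : Nonempty (Sylow 2 X) := inferInstance
  refine ⟨S, ?_⟩
  obtain ⟨S₀, hS₀⟩ := exists_syl hL S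
  set π := QuotientGroup.mk' (center ↥L) with hπ
  have hπs : Function.Surjective π := QuotientGroup.mk'_surjective _
  set U := S₀.mapSurjective hπs with hU
  obtain ⟨P, hP⟩ := CyclicInter.exists_spread (↥L ⧸ center ↥L) inferInstance (quot_noncomm hL) (Or.inr hSE) U
  have hzx : ∀ x : ↥L, π x ∈ (U : Subgroup (↥L ⧸ center ↥L)) → (x : X) ∈ (S : Subgroup X) := fun x hx => by
    rw [hU, Sylow.coe_mapSurjective] at hx
    obtain ⟨w, hw, hwx⟩ := hx
    rw [hS₀] at hw
    have h2 : w⁻¹ * x ∈ center ↥L := (QuotientGroup.eq_one_iff _).1 (by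
      show π (w⁻¹ * x) = 1
      rw [map_mul, map_inv, hwx, inv_mul_cancel])
    have h3 := mul_mem (show (w : X) ∈ (S : Subgroup X) from hw) (R_le S ((hiff _).1 h2))
    rwa [coe_mul, coe_inv, mul_inv_cancel_left] at h3
  obtain ⟨a, ha, ha1⟩ : ∃ a ∈ P, a ≠ 1 := P.bot_or_exists_ne_one.resolve_left fun e => by
    have := hP.facts.four
    rw [e, card_bot] at this
    omega
  obtain ⟨b, hb, hb1, hba⟩ : ∃ b ∈ P, b ≠ 1 ∧ b ≠ a := by
    by_contra hno
    push Not at hno
    have hs : (P : Set (↥L ⧸ center ↥L)) ⊆ {1, a} := fun x hx => by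
      by_cases h1 : x = 1
      · exact Or.inl h1
      · exact Or.inr (hno x hx h1)
    have h1 := Set.ncard_le_ncard hs
    rw [Set.ncard_pair (Ne.symm ha1), ← Nat.card_coe_set_eq] at h1
    have := hP.facts.four
    change Nat.card P ≤ 2 at h1
    omega
  have hsqP : ∀ p ∈ P, p * p = 1 := fun p hp => (hP.facts.mem_iff p (hP.facts.le hp)).2 hp
  obtain ⟨x, rfl⟩ := hπs a
  obtain ⟨y, rfl⟩ := hπs b
  have hxS : (x : X) ∈ (S : Subgroup X) := hzx x (hP.facts.le ha)
  have hyS : (y : X) ∈ (S : Subgroup X) := hzx y (hP.facts.le hb)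
  have hxc : x ∉ center ↥L := fun e => ha1 ((QuotientGroup.eq_one_iff _).2 e)
  have hyc : y ∉ center ↥L := fun e => hb1 ((QuotientGroup.eq_one_iff _).2 e)
  have hxyc : x⁻¹ * y ∉ center ↥L := fun e => hba (by
    have h1 : π (x⁻¹ * y) = 1 := (QuotientGroup.eq_one_iff _).2 e
    rw [map_mul, map_inv, inv_mul_eq_one] at h1
    exact h1.symm)
  have hxx : x * x ∈ center ↥L := (QuotientGroup.eq_one_iff _).1 (by rw [← hsqP _ ha]; rfl)
  have hyy : y * y ∈ center ↥L := (QuotientGroup.eq_one_iff _).1 (by rw [← hsqP _ hb]; rfl)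
  have hcxy : ⁅x, y⁆ ∈ center ↥L := (QuotientGroup.eq_one_iff _).1 (by
    show π ⁅x, y⁆ = 1
    rw [map_commutatorElement, commutatorElement_eq_one_iff_mul_comm]
    exact hP.facts.comm _ ha _ hb)
  have hzS := R_le S hz
  have hzL : ∀ w : ↥L, w ∉ center ↥L → z ≠ (w : X) := fun w hw e => hw ((hiff w).2 (e ▸ hz))
  by_cases hinv : ∃ v : ↥L, v * v = 1 ∧ v ∉ center ↥L ∧ π v ∈ P
  · -- involutions in every coset
    obtain ⟨v, hvv, hvc, hvP⟩ := hinv
    obtain ⟨h₀, hh₀, -, htr, -, -⟩ := hP.facts.reg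
    have hall : ∀ w : ↥L, π w ∈ P → w * w = 1 ∨ w ∈ center ↥L := by
      intro w hw
      by_cases hwc : w ∈ center ↥L
      · exact Or.inr hwc
      left
      obtain ⟨i, hi⟩ := htr _ hvP (fun e => hvc ((QuotientGroup.eq_one_iff _).1 e)) _ hw
        fun e => hwc ((QuotientGroup.eq_one_iff _).1 e)
      obtain ⟨k, hk⟩ := hπs (h₀ ^ i)
      rw [← hk, ← map_inv, ← map_mul, ← map_mul] at hi
      have h1 : (k * v * k⁻¹)⁻¹ * w ∈ center ↥L := (QuotientGroup.eq_one_iff _).1 (by
        show π _ = 1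
        rw [map_mul, map_inv, hi, inv_mul_cancel])
      have h2 := hZ2 _ h1
      set c := (k * v * k⁻¹)⁻¹ * w
      have hw' : w = k * v * k⁻¹ * c := (mul_inv_cancel_left _ _).symm
      rw [hw', (show Commute c (k * v * k⁻¹) from (mem_center_iff.1 h1 _).symm).mul_mul_mul_comm, h2, mul_one,
        show k * v * k⁻¹ * (k * v * k⁻¹) = k * (v * v) * k⁻¹ by group, hvv, mul_one, mul_inv_cancel]
    have hx2 := (hall x ha).resolve_right hxc
    have hy2 := (hall y hb).resolve_right hyc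
    have hxy2 := (hall (x⁻¹ * y) (by rw [map_mul, map_inv]; exact mul_mem (inv_mem ha) hb)).resolve_right hxyc
    rw [inv_eq_of_mul_eq_one_right hx2] at hxy2 hxyc
    have hxy : (x : X) * y = y * x := congrArg Subtype.val (by
      rw [← inv_eq_of_mul_eq_one_right hxy2, mul_inv_rev, inv_eq_of_mul_eq_one_right hx2,
        inv_eq_of_mul_eq_one_right hy2] : x * y = y * x)
    exact ⟨z, hzS, x, hxS, y, hyS, hzz, hz1, congrArg Subtype.val hx2, fun e => hxc (by
        rw [show x = 1 from Subtype.ext e]; exact one_mem _), congrArg Subtype.val hy2, fun e => hyc (by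
        rw [show y = 1 from Subtype.ext e]; exact one_mem _), (hcR hz x).eq, (hcR hz y).eq, hxy, hzL x hxc,
      (hzL y hyc).symm, fun e => hba (by rw [show y = x from Subtype.ext e]), fun e => hxyc ((hiff _).2 (by
        rw [coe_mul, e, ← mul_assoc, ← (hcR hz x).eq, mul_assoc, show (x : X) * x = 1 from congrArg Subtype.val hx2, mul_one]
        exact hz))⟩
  · -- all preimages have order four
    push Not at hinv
    have hsq : ∀ w : ↥L, π w ∈ P → w ∉ center ↥L → ((w : X) * w = z) := by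
      intro w hw hwc
      have h1 : w * w ∈ center ↥L := (QuotientGroup.eq_one_iff _).1 (by rw [← hsqP _ hw]; rfl)
      refine h.R_unique ((hiff _).1 h1) hz (congrArg Subtype.val (hZ2 _ h1)) (fun e => ?_) hzz hz1
      exact hinv w (Subtype.ext e) hwc hw
    have hxy : (x : X) * y * (x : X)⁻¹ * (y : X)⁻¹ = z := by
      have h1 := (hiff _).1 hcxy
      refine h.R_unique h1 hz (congrArg Subtype.val (hZ2 _ hcxy)) (fun e => ?_) hzz hz1
      have hc : Commute x y := commutatorElement_eq_one_iff_mul_comm.1 (Subtype.ext e)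
      have hne : x * y ∉ center ↥L := fun he => hxyc (by
        rw [show x⁻¹ * y = (x * x)⁻¹ * (x * y) by group]; exact mul_mem (inv_mem hxx) he)
      refine hinv (x * y) ?_ hne (by rw [map_mul]; exact mul_mem ha hb)
      refine Subtype.ext ?_
      rw [hc.symm.mul_mul_mul_comm]
      show (x : X) * x * ((y : X) * y) = 1
      rw [hsq x ha hxc, hsq y hb hyc, hzz]
    obtain ⟨p, q, hp4, hq4, hp, hq, hpq, hcom⟩ := quat_pair (2 ^ n) (pow_pos two_pos _) (pow_succ' 2 n)
    obtain ⟨p', rfl⟩ := eR.surjective p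
    obtain ⟨q', rfl⟩ := eR.surjective q
    simp only [← map_mul, ← map_inv, MulEquiv.map_eq_one_iff, ne_eq, EmbeddingLike.apply_eq_iff_eq] at hp4 hq4 hp hq hpq hcom
    have huz : ∀ w : ↥(Cfsg.pCore 2 X), w * w = 1 → w ≠ 1 → (w : X) = z := fun w hw hw1 =>
      h.R_unique w.2 hz (congrArg Subtype.val hw) (fun e => hw1 (Subtype.ext e)) hzz hz1
    have hpp : (p' : X) * p' = z := huz _ hp4 hp
    have hqq : (q' : X) * q' = z := huz _ hq4 hq
    have hpq' : (p' : X) * q' = z * (q' * p') :=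
      mul_inv_eq_iff_eq_mul.1 (huz _ hcom fun e => hpq (mul_inv_eq_one.1 e))
    have hxy' : (x : X) * y = z * (y * x) := by rw [← hxy]; group
    have hxR : ∀ {r : X}, r ∈ Cfsg.pCore 2 X → r * (x : X) ∉ Cfsg.pCore 2 X := fun {r} hr hm => hxc ((hiff _).2 (by
      have := mul_mem (inv_mem hr) hm
      rwa [inv_mul_cancel_left] at this))
    have hyR : ∀ {r : X}, r ∈ Cfsg.pCore 2 X → r * (y : X) ∉ Cfsg.pCore 2 X := fun {r} hr hm => hyc ((hiff _).2 (by
      have := mul_mem (inv_mem hr) hm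
      rwa [inv_mul_cancel_left] at this))
    have hne : ∀ {r : X}, r ∈ Cfsg.pCore 2 X → (q' : X) * y ≠ r * x := fun {r} hr e => hxyc ((hiff _).2 (by
      rw [coe_mul, coe_inv, show (y : X) = (q' : X)⁻¹ * r * x by rw [mul_assoc, ← e, inv_mul_cancel_left],
        (hcR (mul_mem (inv_mem q'.2) hr) x).eq, inv_mul_cancel_left]
      exact mul_mem (inv_mem q'.2) hr))
    refine ⟨z, hzS, p' * x, mul_mem (R_le S p'.2) hxS, q' * y, mul_mem (R_le S q'.2) hyS, hzz, hz1, ?_,
      fun e => hxR p'.2 (e ▸ one_mem _), ?_, fun e => hyR q'.2 (e ▸ one_mem _), (h.R_central hz hzz _).symm,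
      (h.R_central hz hzz _).symm, ?_, fun e => hxR p'.2 (e ▸ hz), fun e => hyR q'.2 (e.symm ▸ hz),
      hne p'.2, ?_⟩
    · rw [(hcR p'.2 x).symm.mul_mul_mul_comm, hpp, hsq x ha hxc, hzz]
    · rw [(hcR q'.2 y).symm.mul_mul_mul_comm, hqq, hsq y hb hyc, hzz]
    · calc (p' : X) * x * (q' * y) = p' * q' * (x * y) := (hcR q'.2 x).symm.mul_mul_mul_comm _ _
        _ = z * (q' * p') * (z * (y * x)) := by rw [hpq', hxy']
        _ = z * z * (q' * p' * (y * x)) := by
          rw [Commute.mul_mul_mul_comm (h.R_central hz hzz _)]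
        _ = q' * y * (p' * x) := by rw [hzz, one_mul, (hcR p'.2 y).mul_mul_mul_comm]
    · rw [← mul_assoc]
      exact hne (mul_mem hz p'.2)

end Cfsg.Agent.GoldCons.RankOneInter
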