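import Cfsg.Agent.Lib.GoldCons.RankOneInter.OneMain

/-!
The 2-core is not trivial.
-/

set_option autoImplicit false
set_option linter.style.haveILetI false
set_option linter.unusedSectionVars false

namespace Cfsg.Agent.GoldCons.RankOneInter

open Subgroup

universe u

variable {X : Type u} [Group X] [Finite X]

/-- An abelian intersection of two Sylow 2-subgroups is cyclic. -/
theorem cyclic_of_comm (h : RI X) {S T : Sylow 2 X} (hST : S ≠ T)
    (hc : ∀ a ∈ (S : Subgroup X) ⊓ (T : Subgroup X), ∀ b ∈ (S : Subgroup X) ⊓ (T : Subgroup X), a * b = b * a) :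
    IsCyclic ↥((S : Subgroup X) ⊓ (T : Subgroup X)) := by
  haveI : Fact (Nat.Prime 2) := ⟨Nat.prime_two⟩
  set D := (S : Subgroup X) ⊓ (T : Subgroup X) with hD
  have hp : IsPGroup 2 ↥D := S.2.to_le inf_le_left
  have h1 : BrauerSuzuki.RankOne ↥D := by
    intro a b ha hb hab
    have hsq : ∀ {c : ↥D}, orderOf c = 2 → (c : X) * c = 1 ∧ (c : X) ≠ 1 := fun {c} hc => by
      constructor
      · have := congrArg Subtype.val (pow_orderOf_eq_one c)
        rwa [hc, pow_two] at this
      · intro e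
        rw [show c = 1 from Subtype.ext e, orderOf_one] at hc
        omega
    exact Subtype.ext (h S T hST a a.2 b b.2 (hsq ha).1 (hsq ha).2 (hsq hb).1 (hsq hb).2
      (congrArg Subtype.val hab.eq))
  have hcyc := BrauerSuzuki.abCyclic h1 (S := ⊤) (hp.to_subgroup ⊤)
  haveI : IsMulCommutative ↥(⊤ : Subgroup ↥(⊤ : Subgroup ↥D)) :=
    ⟨⟨fun a b => Subtype.ext (Subtype.ext (Subtype.ext (hc _ a.1.1.2 _ b.1.1.2)))⟩⟩
  haveI := hcyc ⊤ inferInstance
  exact ((topEquiv (G := ↥(⊤ : Subgroup ↥D))).trans topEquiv).isCyclic.1 inferInstance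

/-- The 2-core is not trivial. -/
theorem Hyp.R_ne_bot (h : Hyp X) (hA : ClosedStmt.{u}) : Cfsg.pCore 2 X ≠ ⊥ := by
  classical
  haveI : Fact (Nat.Prime 2) := ⟨Nat.prime_two⟩
  intro hR
  obtain ⟨L, hL⟩ := h.exists_component
  have hL2 : HasTwo L := by
    by_contra h1
    obtain ⟨z, -, hz1, -, -, hzR, -, -⟩ := quat_facts h hL h1
    rw [hR, mem_bot] at hzR
    exact hz1 (Subtype.ext hzR)
  have hD := det_of_two h hL hL2
  haveI hLn := hD.normal hL
  have hZ : center ↥L = ⊥ := (Subgroup.eq_bot_iff_forall _).2 fun c hc => Subtype.ext (by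
    have := (mem_center_iff_R h.odd hL c).1 hc
    rwa [hR, mem_bot] at this)
  have hcL : centralizer (L : Set X) = ⊥ := by
    haveI : (centralizer (L : Set X)).Normal := Subgroup.normal_centralizer
    refine GW.eq_bot_of_odd_normal h.odd inferInstance (Nat.not_even_iff_odd.1 fun he => ?_)
    obtain ⟨⟨t, ht⟩, hto⟩ := exists_prime_orderOf_dvd_card' 2 (even_iff_two_dvd.1 he)
    rw [orderOf_mk] at hto
    obtain ⟨S, hS⟩ := (IsPGroup.of_card (p := 2) (n := 1) (G := ↥(zpowers t))
      (by rw [Nat.card_zpowers, hto, pow_one])).exists_le_sylow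
    have h1 := hD.inf_centralizer_le_R h.odd hL S ⟨hS (mem_zpowers t), ht⟩
    rw [hR, mem_bot] at h1
    rw [h1, orderOf_one] at hto
    omega
  let e : ↥L ⧸ center ↥L ≃* ↥L := (QuotientGroup.quotientMulEquivOfEq hZ).trans QuotientGroup.quotientBot
  haveI := quot_simple hL
  haveI hLs : IsSimpleGroup ↥L := e.symm.isSimpleGroup_congr.2 inferInstance
  have hLnc : ¬ IsMulCommutative ↥L := fun hc => quot_noncomm hL
    ⟨⟨fun a b => e.injective (by rw [map_mul, map_mul, hc.is_comm.comm])⟩⟩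
  obtain ⟨S, U, hne, hnc⟩ := h.nc
  obtain ⟨T, hT⟩ := exists_syl hL S
  have hCE : CentralRankOne ↥L := (h.ri.subgroup L).centralRankOne
  obtain ⟨A, hA1, hAc, hcl⟩ := exists_closed hLnc hCE T
  rcases hA ↥L hLs T A hA1 hAc hcl with hab | hH
  · have hK : Walter4.Good ↥L := Walter4.good ↥L hLs hLnc fun P => ⟨⟨fun x y =>
      (Sylow.equiv P T).injective (by rw [map_mul, map_mul, hab.is_comm.comm])⟩⟩
    obtain ⟨P, hP⟩ := CyclicInter.exists_spread ↥L hLs hLnc (Or.inl hK) T
    have hSL : (S : Subgroup X) ≤ L := CyclicInter.sylow_le_of L hcL S T hT (fun g hg =>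
      hD.normalizer_le (fun x => ⟨fun hx => by
        have := hLn.conj_mem x hx g⁻¹; rwa [inv_inv] at this, fun hx => by
        have := hLn.conj_mem _ hx g; rwa [show g * (g⁻¹ * x * g) * g⁻¹ = x by group] at this⟩) S hg) hP
    refine hnc (cyclic_of_comm h.ri hne fun a ha b hb => ?_)
    rw [mem_inf] at ha hb
    have hm : ∀ {c : X} (hc : c ∈ (S : Subgroup X)), (⟨c, hSL hc⟩ : ↥L) ∈ (T : Subgroup ↥L) := fun hc => by
      rw [hT, mem_subgroupOf]
      exact hc
    exact congrArg (fun t : (T : Subgroup ↥L) => (t : X))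
      (hab.is_comm.comm ⟨_, hm ha.1⟩ ⟨_, hm hb.1⟩)
  · have hle := inter_le_R h hL hD (se_transport e.symm hH) hne
    refine hnc ?_
    rw [hR, le_bot_iff] at hle
    rw [hle]
    infer_instance

end Cfsg.Agent.GoldCons.RankOneInter
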