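import Cfsg.Agent.Lib.GoldCons.RankOneInter.Basic
import Cfsg.Agent.Lib.Components.FStar
import Cfsg.Agent.Lib.FiniteGroup.FittingPow
import Cfsg.Agent.Lib.BrauerSuzuki.Sylow
import Cfsg.Agent.Lib.FGStruct.QuatFortyEight.Main
import Cfsg.Agent.Lib.NearField.TypeTwo
import Cfsg.Agent.Lib.GW.Structure
import Cfsg.Agent.Lib.Transfer.Basic
import Cfsg.Agent.Lib.Char.Burnside

/-!
The standing data: a non-solvable group with trivial odd core whose Sylow 2-subgroups have rank at least two and meet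
in rank at most one. Its 2-core has at most one involution, and components exist.
-/

set_option autoImplicit false
set_option linter.style.haveILetI false
set_option linter.unusedSectionVars false

namespace Cfsg.Agent.GoldCons.RankOneInter

open Subgroup

universe u

/-- The data on a group with trivial odd core. -/
structure Hyp (X : Type u) [Group X] : Prop where
  ri : RI X
  odd : Cfsg.oddCore X = ⊥
  nsol : ¬ Group.IsSolvable X
  two : ∀ S : Sylow 2 X, HasTwo (S : Subgroup X)
  nc : ∃ S T : Sylow 2 X, S ≠ T ∧ ¬ IsCyclic ↥((S : Subgroup X) ⊓ (T : Subgroup X))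

variable {X : Type u} [Group X] [Finite X]

theorem R_isPGroup : IsPGroup 2 ↥(Cfsg.pCore 2 X) := PBasic.pCore_isPGroup 2 X

theorem R_normal : (Cfsg.pCore 2 X).Normal := FiniteGroup.pCore_normal 2

theorem R_le (S : Sylow 2 X) : Cfsg.pCore 2 X ≤ (S : Subgroup X) := by
  haveI : Fact (Nat.Prime 2) := ⟨Nat.prime_two⟩
  haveI := R_normal (X := X)
  exact IsPGroup.le_sylow_of_normal R_isPGroup S

theorem R_solvable : Group.IsSolvable ↥(Cfsg.pCore 2 X) := by
  haveI : Fact (Nat.Prime 2) := ⟨Nat.prime_two⟩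
  haveI := (R_isPGroup (X := X)).isNilpotent
  infer_instance

theorem fitting_le_R (hO : Cfsg.oddCore X = ⊥) : Cfsg.fittingSubgroup X ≤ Cfsg.pCore 2 X := by
  refine FiniteGroup.fittingSubgroup_le_sup_pCores.trans (Finset.sup_le fun p hp => ?_)
  by_cases h2 : p = 2
  · subst h2; exact le_rfl
  haveI : Fact p.Prime := ⟨Nat.prime_of_mem_primeFactors hp⟩
  obtain ⟨k, hk⟩ := IsPGroup.iff_card.1 (PBasic.pCore_isPGroup p X)
  rw [GW.eq_bot_of_odd_normal hO (FiniteGroup.pCore_normal p)
    (by rw [hk]; exact ((Fact.out : p.Prime).odd_of_ne_two h2).pow)]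
  exact bot_le

/-- Subnormal 2-subgroups lie in the 2-core. -/
theorem subnormal_le_R (hO : Cfsg.oddCore X = ⊥) {K : Subgroup X} (hs : K.IsSubnormal) (hK : IsPGroup 2 K) :
    K ≤ Cfsg.pCore 2 X := by
  haveI : Fact (Nat.Prime 2) := ⟨Nat.prime_two⟩
  exact (Components.subnormal_nilpotent_le_fitting hs hK.isNilpotent).trans (fitting_le_R hO)

theorem center_map_le_R (hO : Cfsg.oddCore X = ⊥) {L : Subgroup X} (hL : Cfsg.IsComponent L) :
    (center ↥L).map L.subtype ≤ Cfsg.pCore 2 X := by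
  refine (Components.subnormal_nilpotent_le_fitting ?_ ?_).trans (fitting_le_R hO)
  · refine Subgroup.IsSubnormal.step _ L (map_subtype_le _) hL.1 ?_
    rw [subgroupOf, comap_map_eq_self_of_injective L.subtype_injective]
    infer_instance
  · letI : CommGroup ↥(center ↥L) := { (inferInstance : Group ↥(center ↥L)) with
      mul_comm := fun a b => Subtype.ext (mem_center_iff.1 b.2 a) }
    exact Group.nilpotent_of_mulEquiv (equivMapOfInjective _ L.subtype L.subtype_injective)

theorem component_le_centralizer_R {L : Subgroup X} (hL : Cfsg.IsComponent L) :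
    L ≤ centralizer (Cfsg.pCore 2 X : Set X) := by
  haveI := R_normal (X := X)
  exact commutator_eq_bot_iff_le_centralizer.1
    (Components.component_commute_solvable hL R_solvable le_normalizer_of_normal)

theorem inf_R_le_center {L : Subgroup X} (hL : Cfsg.IsComponent L) {x : X} (hx : x ∈ L)
    (hxR : x ∈ Cfsg.pCore 2 X) : (⟨x, hx⟩ : L) ∈ center L :=
  mem_center_iff.2 fun g => Subtype.ext (mem_centralizer_iff.1 (component_le_centralizer_R hL g.2) x hxR).symm

namespace Hyp

variable (h : Hyp X)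
include h

/-- The 2-core has at most one involution. -/
theorem R_rankOne : BrauerSuzuki.RankOne ↥(Cfsg.pCore 2 X) := by
  obtain ⟨S, T, hST, -⟩ := h.nc
  intro a b ha hb hab
  by_contra hne
  have hsq : ∀ {c : ↥(Cfsg.pCore 2 X)}, orderOf c = 2 → (c : X) * c = 1 ∧ (c : X) ≠ 1 := fun {c} hc => by
    constructor
    · have := congrArg Subtype.val (pow_orderOf_eq_one c)
      rwa [hc, pow_two] at this
    · intro e
      rw [show c = 1 from Subtype.ext e, orderOf_one] at hc
      omega
  exact hST (h.ri.eq_of_two ⟨a, a.2, b, b.2, (hsq ha).1, (hsq ha).2, (hsq hb).1, (hsq hb).2,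
    congrArg Subtype.val hab.eq, fun e => hne (Subtype.ext e)⟩ (R_le S) (R_le T))

theorem R_unique {a b : X} (ha : a ∈ Cfsg.pCore 2 X) (hb : b ∈ Cfsg.pCore 2 X) (haa : a * a = 1)
    (ha1 : a ≠ 1) (hbb : b * b = 1) (hb1 : b ≠ 1) : a = b := by
  haveI : Fact (Nat.Prime 2) := ⟨Nat.prime_two⟩
  have ho : ∀ {c : ↥(Cfsg.pCore 2 X)}, (c : X) * c = 1 → (c : X) ≠ 1 → orderOf c = 2 := fun {c} hc hc1 =>
    orderOf_eq_prime (Subtype.ext (by rw [SubmonoidClass.coe_pow, pow_two]; exact hc))
      fun e => hc1 (congrArg Subtype.val e)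
  exact congrArg Subtype.val (BrauerSuzuki.RankOne.unique_invol h.R_rankOne (S := ⊤)
    (R_isPGroup.to_subgroup ⊤) (mem_top (⟨a, ha⟩ : ↥(Cfsg.pCore 2 X))) (mem_top ⟨b, hb⟩)
    (ho haa ha1) (ho hbb hb1))

/-- The involution of the 2-core is central. -/
theorem R_central {z : X} (hz : z ∈ Cfsg.pCore 2 X) (hzz : z * z = 1) (g : X) : g * z = z * g := by
  by_cases hz1 : z = 1
  · rw [hz1, mul_one, one_mul]
  have := h.R_unique (R_normal.conj_mem z hz g) hz
    (by rw [show g * z * g⁻¹ * (g * z * g⁻¹) = g * (z * z) * g⁻¹ by group, hzz, mul_one, mul_inv_cancel])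
    (fun e => hz1 (conj_eq_one_iff.1 e)) hzz hz1
  exact mul_inv_eq_iff_eq_mul.1 this

/-- The involution of a non-trivial 2-core. -/
theorem exists_z (hR : Cfsg.pCore 2 X ≠ ⊥) :
    ∃ z, z ∈ Cfsg.pCore 2 X ∧ z * z = 1 ∧ z ≠ 1 := by
  haveI : Fact (Nat.Prime 2) := ⟨Nat.prime_two⟩
  haveI : Nontrivial ↥(Cfsg.pCore 2 X) := (Subgroup.nontrivial_iff_ne_bot _).2 hR
  obtain ⟨k, hk⟩ := IsPGroup.iff_card.1 (R_isPGroup (X := X))
  have hk1 : 2 ∣ Nat.card ↥(Cfsg.pCore 2 X) := by
    have h1 : 1 < Nat.card ↥(Cfsg.pCore 2 X) := Finite.one_lt_card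
    rw [hk] at h1 ⊢
    exact dvd_pow_self 2 (by rintro rfl; simp at h1)
  obtain ⟨t, ht⟩ := exists_prime_orderOf_dvd_card' 2 hk1
  refine ⟨t, t.2, ?_, fun e => ?_⟩
  · have := congrArg Subtype.val (pow_orderOf_eq_one t)
    rwa [ht, pow_two] at this
  · rw [show t = 1 from Subtype.ext e, orderOf_one] at ht
    omega

/-- An involution outside the 2-core lies in one Sylow subgroup only, once the 2-core is non-trivial. -/
theorem eq_of_invol (hR : Cfsg.pCore 2 X ≠ ⊥) {v : X} (hvv : v * v = 1) (hvR : v ∉ Cfsg.pCore 2 X)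
    {S T : Sylow 2 X} (hS : v ∈ (S : Subgroup X)) (hT : v ∈ (T : Subgroup X)) : S = T := by
  obtain ⟨z, hz, hzz, hz1⟩ := h.exists_z hR
  refine h.ri.eq_of_two (X := (S : Subgroup X) ⊓ (T : Subgroup X))
    ⟨z, ⟨R_le S hz, R_le T hz⟩, v, ⟨hS, hT⟩, hzz, hz1, hvv, fun e => hvR (e ▸ one_mem _),
      (h.R_central hz hzz v).symm, fun e => hvR (e ▸ hz)⟩ inf_le_left inf_le_right

/-- The automorphism group of the 2-core is solvable. -/
theorem aut_R_solvable : Group.IsSolvable (MulAut ↥(Cfsg.pCore 2 X)) := by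
  haveI : Fact (Nat.Prime 2) := ⟨Nat.prime_two⟩
  set R := Cfsg.pCore 2 X with hR
  have hab : AbCyc.AbCyclic R := by
    intro A hA
    have hcyc := BrauerSuzuki.abCyclic h.R_rankOne (S := ⊤) (R_isPGroup.to_subgroup ⊤)
    haveI := hA
    have e := equivMapOfInjective A (topEquiv (G := ↥R)).symm.toMonoidHom (topEquiv (G := ↥R)).symm.injective
    haveI : IsMulCommutative ↥(A.map (topEquiv (G := ↥R)).symm.toMonoidHom) :=
      ⟨⟨fun a b => e.symm.injective (by rw [map_mul, map_mul, mul_comm'])⟩⟩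
    exact e.isCyclic.2 (hcyc _ inferInstance)
  rcases FpfStruct.cyclic_or_quaternion R_isPGroup hab with hc | ⟨-, n, ⟨e⟩⟩
  · haveI := hc
    exact Group.isSolvable_of_comm fun a b =>
      (IsCyclic.mulAutMulEquiv ↥R).injective (by rw [map_mul, map_mul, mul_comm])
  · refine (Components.isSolvable_congr (MulAut.congr e)).2 ?_
    by_cases hn : n = 1
    · subst hn
      exact Char.isSolvable_of_card_pq 2 3 Nat.prime_two Nat.prime_three _ _ rfl
        ⟨3, 1, by rw [show (2 : ℕ) ^ 1 = 2 from rfl, NearField.card_mulAut_q8]; norm_num⟩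
    · have hp : IsPGroup 2 (MulAut (QuaternionGroup (2 ^ n))) := by
        haveI : NeZero (2 ^ n) := ⟨pow_ne_zero _ two_ne_zero⟩
        intro φ
        obtain ⟨k, m, hm, hkm⟩ := Nat.exists_eq_two_pow_mul_odd (orderOf_pos φ).ne'
        refine ⟨k, FGStruct.QuatFortyEight.quaternion_aut hn _ ?_⟩
        rw [orderOf_pow_of_dvd (pow_ne_zero _ two_ne_zero) ⟨m, hkm⟩, hkm,
          Nat.mul_div_cancel_left _ (pow_pos two_pos _)]
        exact hm
      haveI : NeZero (2 ^ n) := ⟨pow_ne_zero _ two_ne_zero⟩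
      haveI := hp.isNilpotent
      infer_instance

/-- Components exist. -/
theorem exists_component : ∃ L : Subgroup X, Cfsg.IsComponent L := by
  by_contra hno
  push Not at hno
  have hlay : Cfsg.layer X = ⊥ := le_bot_iff.1 (Components.layer_le_iff.2 fun L hL => absurd hL (hno L))
  set R := Cfsg.pCore 2 X with hR
  haveI := R_normal (X := X)
  have hC : centralizer (R : Set X) ≤ R := by
    have hF : Cfsg.generalizedFittingSubgroup X ≤ R := by
      rw [Cfsg.generalizedFittingSubgroup, hlay, bot_sup_eq]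
      exact fitting_le_R h.odd
    exact (centralizer_le hF).trans (Components.centralizer_generalizedFitting_le.trans hF)
  haveI := h.aut_R_solvable
  haveI := R_solvable (X := X)
  refine h.nsol (Group.isSolvable_of_ker_le_range R.subtype (MulAut.conjNormal : X →* MulAut R) ?_)
  rw [range_subtype]
  intro g hg
  refine hC (mem_centralizer_iff.2 fun r hr => ?_)
  have := congrArg (fun φ : MulAut R => ((φ ⟨r, hr⟩ : R) : X)) (MonoidHom.mem_ker.1 hg)
  simp only [MulAut.conjNormal_apply, MulAut.one_apply] at this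
  exact (mul_inv_eq_iff_eq_mul.1 this).symm

end Hyp

end Cfsg.Agent.GoldCons.RankOneInter
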